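import Cfsg.Agent.Lib.Solvable.ClassBound.Numeric

/-!
# Numerical part of the bound `49 p ≤ 60 k(G)`

`imageBound n` bounds the group induced on a symplectic layer of order `n`, `scalarBound w` the
index of the scalars of a primitive solvable group of dimension `w`.  Large dimensions are handled
through the product of the numbers of classes and orbits, finitely many small ones through their
sum.
-/

set_option autoImplicit false

namespace CfsgLib.Solvable.ClassLinearBound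

open CfsgLib.Solvable.ClassBound

/-- The divisor chains, with fuel. -/
def cdAux : ℕ → ℕ → ℕ
  | 0, _ => 1
  | k + 1, n => n * ((List.range n).filter (fun d => n % d == 0)).foldl
      (fun r d => max r (cdAux k d)) 1

/-- The longest product along a divisor chain, for small numbers. -/
def cd (n : ℕ) : ℕ := cdAux 7 n

/-- The bound for the index of the kernel on a layer of order `n`. -/
def layerBound (n : ℕ) : ℕ :=
  max 1 ((n - 1) * ((List.range n).filter (fun d => n % d == 0)).foldl (fun r d => max r (cd d)) 1)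

theorem cd_step : ∀ n : ℕ, n ≤ 100 → ∀ d : ℕ, d < n → d ∣ n → 1 ≤ cd d ∧ n * cd d ≤ cd n := by
  decide +kernel

theorem one_le_cd : ∀ n : ℕ, n ≤ 100 → 1 ≤ n → 1 ≤ cd n := by
  decide +kernel

theorem layerBound_step : ∀ n : ℕ, n ≤ 100 → ∀ d : ℕ, d < n → d ∣ n →
    (n - 1) * cd d ≤ layerBound n := by
  decide +kernel

/-- The bound for the index of the scalars. -/
def scalarBound (w : ℕ) : ℕ :=
  if w ≤ 10 then [1, 1, 24, 216, 2304, 3000, 46656, 16464, 32000000, 4723920, 61875000].getD w 1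
  else indexBound w

/-- The cases not covered by the product of classes and orbits. -/
def Exceptional (h w p : ℕ) : Prop :=
  h = 1 ∧ ((w = 2) ∨ (w = 3 ∧ p ≤ 31) ∨ (w = 4 ∧ p ≤ 19) ∨ (w = 8 ∧ p ≤ 13))

/-- `a * p ^ 2` is at most `b * (p ^ e - 1)` if `a ≤ c * 11 ^ (e - 2)` with some room. -/
theorem pow_compare {a p e : ℕ} (he : 2 ≤ e) (hp : 11 ≤ p) (h : a ≤ 14000 * 11 ^ (e - 2)) :
    a * p ^ 2 ≤ 14400 * (p ^ e - 1) := by
  have h1 : a * p ^ 2 ≤ 14000 * p ^ e := by
    refine (Nat.mul_le_mul_right _ (h.trans (Nat.mul_le_mul_left _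
      (Nat.pow_le_pow_left hp _)))).trans (le_of_eq ?_)
    rw [mul_assoc, ← pow_add, Nat.sub_add_cancel he]
  have h2 : 11 * 11 ≤ p ^ e :=
    le_trans (by rw [sq]; exact Nat.mul_le_mul hp hp) (Nat.pow_le_pow_right (by omega) he)
  omega

theorem indexBound_mid : ∀ w : ℕ, w ≤ 32 → 11 ≤ w →
    2401 * indexBound w ≤ 14000 * 11 ^ (w - 2) := by
  decide +kernel

theorem quad_le' : ∀ u : ℕ, 6 ≤ u → 2 * u * u + 3 * u ≤ 3 * (2 ^ (u - 1) - 1) := by
  intro u hu
  induction u, hu using Nat.le_induction with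
  | base => norm_num
  | succ u hu ih =>
    have h1 : 4 * u + 5 ≤ 2 * u * u + 3 * u := by
      have : 6 * u ≤ u * u := Nat.mul_le_mul_right u hu
      rw [mul_assoc]
      omega
    have e : 2 * (u + 1) * (u + 1) + 3 * (u + 1) = 2 * u * u + 3 * u + (4 * u + 5) := by ring
    have e2 : 2 ^ (u + 1 - 1) = 2 * 2 ^ (u - 1) := by
      rw [show u + 1 - 1 = u - 1 + 1 by omega, pow_succ, mul_comm]
    have : 1 ≤ 2 ^ (u - 1) := Nat.one_le_two_pow
    omega

theorem indexBound_large {w : ℕ} (hw : 11 ≤ w) :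
    2401 * indexBound w ≤ 14000 * 11 ^ (w - 2) := by
  by_cases h32 : w ≤ 32
  · exact indexBound_mid w h32 hw
  set u := Nat.clog 2 w with hu
  have hwu : w ≤ 2 ^ u := Nat.le_pow_clog one_lt_two w
  have hu6 : 6 ≤ u := by
    by_contra h
    have : 2 ^ u ≤ 2 ^ 5 := Nat.pow_le_pow_right (by norm_num) (by omega)
    omega
  have hlow : 2 ^ (u - 1) < w := Nat.pow_pred_clog_lt_self one_lt_two (by omega)
  have hn : w ^ 2 ≤ 2 ^ (2 * u) := by rw [mul_comm, pow_mul]; exact Nat.pow_le_pow_left hwu 2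
  have hhalf : w ^ 2 / 2 ≤ 2 ^ (2 * u - 1) := by
    have e : 2 ^ (2 * u) = 2 ^ (2 * u - 1) * 2 := by rw [← pow_succ]; congr 1; omega
    omega
  have hchain : chain (w ^ 2 / 2) ≤ 2 ^ ((2 * u - 1) * u) := by
    refine (Nat.pow_le_pow_iff_left (n := 2) (by norm_num)).1
      ((chain_sq_le _ _ hhalf).trans (le_of_eq ?_))
    rw [← pow_mul, Nat.sub_add_cancel (by omega)]
    congr 1
    ring
  have hI : indexBound w ≤ 2 ^ (2 * u * u + 3 * u) := by
    have hm : max 1 ((w ^ 2 - 1) * chain (w ^ 2 / 2)) ≤ 2 ^ (2 * u + (2 * u - 1) * u) := by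
      rw [pow_add]
      exact max_le (Nat.mul_le_mul Nat.one_le_two_pow Nat.one_le_two_pow)
        (Nat.mul_le_mul ((Nat.sub_le _ 1).trans hn) hchain)
    refine (Nat.mul_le_mul hn hm).trans (le_of_eq ?_)
    rw [← pow_add]
    congr 1
    obtain ⟨v, hv⟩ : ∃ v, u = v + 1 := ⟨u - 1, by omega⟩
    rw [hv, show 2 * (v + 1) - 1 = 2 * v + 1 by omega]
    ring
  have h8 : indexBound w ≤ 11 ^ (w - 2) := by
    refine hI.trans ?_
    calc 2 ^ (2 * u * u + 3 * u) ≤ 2 ^ (3 * (w - 2)) :=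
          Nat.pow_le_pow_right (by norm_num) (by have := quad_le' u hu6; omega)
      _ = 8 ^ (w - 2) := by rw [pow_mul]; norm_num
      _ ≤ _ := Nat.pow_le_pow_left (by norm_num) _
  omega

theorem scalarBound_le {w : ℕ} (hw : 2 ≤ w) :
    2401 * scalarBound w ≤ 14000 * 11 ^ (w - 2) * 11 := by
  by_cases h10 : w ≤ 10
  · interval_cases w <;> norm_num [scalarBound]
  · rw [scalarBound, if_neg h10]
    exact (indexBound_large (by omega)).trans (Nat.le_mul_of_pos_right _ (by norm_num))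

theorem sq_le_pow : ∀ h : ℕ, 2 ≤ h → h * h * 11 ≤ 11 ^ (2 * (h - 1)) := by
  intro h hh
  induction h, hh using Nat.le_induction with
  | base => norm_num
  | succ h hh ih =>
    rw [show 2 * (h + 1 - 1) = 2 * (h - 1) + 2 by omega, pow_add]
    have : (h + 1) * (h + 1) * 11 ≤ h * h * 11 * 121 := by nlinarith
    exact this.trans (Nat.mul_le_mul_right _ ih)

theorem one_dim : ∀ h : ℕ, 2 ≤ h → 2401 * (h * h) ≤ 14000 * 11 ^ (h - 2) := by
  intro h hh
  induction h, hh using Nat.le_induction with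
  | base => norm_num
  | succ h hh ih =>
    rw [show h + 1 - 2 = h - 2 + 1 by omega, pow_succ, ← mul_assoc 14000]
    have : 2401 * ((h + 1) * (h + 1)) ≤ 2401 * (h * h) * 11 := by nlinarith
    exact this.trans (Nat.mul_le_mul_right _ ih)

/-- Outside the exceptional cases the product of classes and orbits is large. -/
theorem product_numeric {h w p : ℕ} (hh : 1 ≤ h) (hw : 1 ≤ w) (he : 2 ≤ h * w) (hp : 11 ≤ p)
    (hpp : p.Prime) (hex : ¬ Exceptional h w p) :
    2401 * (h * h * scalarBound w) * p ^ 2 ≤ 14400 * (p ^ (h * w) - 1) := by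
  rcases Nat.lt_or_ge h 2 with h1 | h2
  · obtain rfl : h = 1 := by omega
    simp only [one_mul] at he ⊢
    rcases Nat.lt_or_ge 10 w with hw11 | hw10
    · refine pow_compare he hp ?_
      rw [scalarBound, if_neg (by omega)]
      exact indexBound_large (by omega)
    have hcases : w = 5 ∨ w = 6 ∨ w = 7 ∨ w = 9 ∨ w = 10 ∨ (w = 3 ∧ 37 ≤ p) ∨ (w = 4 ∧ 23 ≤ p) ∨
        (w = 8 ∧ 17 ≤ p) := by
      rcases (show w = 2 ∨ w = 3 ∨ w = 4 ∨ w = 5 ∨ w = 6 ∨ w = 7 ∨ w = 8 ∨ w = 9 ∨ w = 10 by omega)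
        with rfl | rfl | rfl | rfl | rfl | rfl | rfl | rfl | rfl
      · exact absurd ⟨rfl, Or.inl rfl⟩ hex
      · have : 31 < p := not_le.1 fun h => hex ⟨rfl, Or.inr (Or.inl ⟨rfl, h⟩)⟩
        have : ∀ q, q < 37 → 31 < q → ¬ q.Prime := by decide +kernel
        have h37 : 37 ≤ p := not_lt.1 fun h => this p h (by omega) hpp
        omega
      · have : 19 < p := not_le.1 fun h => hex ⟨rfl, Or.inr (Or.inr (Or.inl ⟨rfl, h⟩))⟩
        have : ∀ q, q < 23 → 19 < q → ¬ q.Prime := by decide +kernel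
        have h23 : 23 ≤ p := not_lt.1 fun h => this p h (by omega) hpp
        omega
      · omega
      · omega
      · omega
      · have : 13 < p := not_le.1 fun h => hex ⟨rfl, Or.inr (Or.inr (Or.inr ⟨rfl, h⟩))⟩
        have : ∀ q, q < 17 → 13 < q → ¬ q.Prime := by decide +kernel
        have h17 : 17 ≤ p := not_lt.1 fun h => this p h (by omega) hpp
        omega
      · omega
      · omega
    rcases hcases with rfl | rfl | rfl | rfl | rfl | ⟨rfl, hb⟩ | ⟨rfl, hb⟩ | ⟨rfl, hb⟩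
    iterate 5 exact pow_compare (by norm_num) hp (by norm_num [scalarBound])
    all_goals simp only [scalarBound]
    all_goals norm_num
    · have h1 : 37 * p ^ 2 ≤ p ^ 3 := by rw [pow_succ' p 2]; exact Nat.mul_le_mul_right _ hb
      have h2 : 11 * 11 ≤ p ^ 2 := by rw [sq]; exact Nat.mul_le_mul hp hp
      omega
    · have h1 : 529 * p ^ 2 ≤ p ^ 4 := by
        rw [show p ^ 4 = p ^ 2 * p ^ 2 by ring]
        exact Nat.mul_le_mul_right _ ((Nat.pow_le_pow_left hb 2).trans' (by norm_num))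
      have h2 : 11 * 11 ≤ p ^ 2 := by rw [sq]; exact Nat.mul_le_mul hp hp
      omega
    · have h1 : 24137569 * p ^ 2 ≤ p ^ 8 := by
        rw [show p ^ 8 = p ^ 6 * p ^ 2 by ring]
        exact Nat.mul_le_mul_right _ ((Nat.pow_le_pow_left hb 6).trans' (by norm_num))
      have h2 : 11 * 11 ≤ p ^ 2 := by rw [sq]; exact Nat.mul_le_mul hp hp
      omega
  · refine pow_compare he hp ?_
    rcases Nat.lt_or_ge w 2 with w1 | w2
    · obtain rfl : w = 1 := by omega
      rw [show scalarBound 1 = 1 from rfl, mul_one, mul_one]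
      exact one_dim h h2
    · have e1 : h * h * 11 ≤ 11 ^ ((h - 1) * w) :=
        (sq_le_pow h h2).trans (Nat.pow_le_pow_right (by norm_num)
          (by rw [mul_comm 2]; exact Nat.mul_le_mul_left _ w2))
      refine le_of_mul_le_mul_right ?_ (by norm_num : (0 : ℕ) < 11)
      calc 2401 * (h * h * scalarBound w) * 11 = 2401 * scalarBound w * (h * h * 11) := by ring
        _ ≤ 14000 * 11 ^ (w - 2) * 11 * 11 ^ ((h - 1) * w) :=
            Nat.mul_le_mul (scalarBound_le w2) e1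
        _ = 14000 * 11 ^ (w - 2 + (h - 1) * w) * 11 := by rw [pow_add]; ring
        _ = _ := by
            congr 3
            obtain ⟨a, rfl⟩ : ∃ a, h = a + 1 := ⟨h - 1, by omega⟩
            rw [Nat.add_sub_cancel, add_mul, one_mul]
            omega

/-- From the product to the sum. -/
theorem sum_of_product {k o p : ℕ} (h : 2401 * p ^ 2 ≤ 14400 * (k * o)) :
    49 * p ≤ 60 * (k + o) := by
  refine (Nat.pow_le_pow_iff_left two_ne_zero).1 ?_
  have h1 : 4 * (k * o) ≤ (k + o) ^ 2 := by nlinarith [sq_nonneg ((k : ℤ) - o)]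
  rw [mul_pow, mul_pow]
  omega

/-- The bound for the permutation group in the monomial case. -/
def permBound (t : ℕ) : ℕ := t * (t - 1).descFactorial (Nat.log 2 t)

theorem two_quad : ∀ k : ℕ, 5 ≤ k → 2 * (k + 1) * (k + 1) ≤ 3 * (2 ^ k - 2) := by
  intro k hk
  induction k, hk using Nat.le_induction with
  | base => norm_num
  | succ k hk ih =>
    have h1 : 4 * k + 6 ≤ 2 * (k + 1) * (k + 1) := by nlinarith
    have e : 2 * (k + 1 + 1) * (k + 1 + 1) = 2 * (k + 1) * (k + 1) + (4 * k + 6) := by ring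
    have : 2 ≤ 2 ^ k := Nat.le_self_pow (by omega) 2
    rw [pow_succ]
    omega

theorem permBound_le_mid : ∀ t : ℕ, t < 32 → 2 ≤ t →
    2401 * (permBound t * permBound t) ≤ 14000 * 11 ^ (t - 2) := by
  intro t h1 h2
  interval_cases t <;> norm_num [permBound, Nat.descFactorial]

/-- The monomial case. -/
theorem monomial_numeric {t p : ℕ} (ht : 2 ≤ t) (hp : 11 ≤ p) :
    2401 * (permBound t * permBound t) * p ^ 2 ≤ 14400 * (p ^ t - 1) := by
  refine pow_compare ht hp ?_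
  by_cases h32 : t < 32
  · exact permBound_le_mid t h32 ht
  set k := Nat.log 2 t with hk
  have hk5 : 5 ≤ k := Nat.le_log_of_pow_le one_lt_two (by omega)
  have hlo : 2 ^ k ≤ t := Nat.pow_log_le_self 2 (by omega)
  have hhi : t ≤ 2 ^ (k + 1) := (Nat.lt_pow_succ_log_self one_lt_two t).le
  have hb : permBound t ≤ t ^ (k + 1) := by
    rw [permBound, ← hk, pow_succ']
    exact Nat.mul_le_mul_left _
      ((Nat.descFactorial_le_pow _ _).trans (Nat.pow_le_pow_left (Nat.sub_le t 1) _))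
  have h8 : permBound t * permBound t ≤ 11 ^ (t - 2) := by
    calc permBound t * permBound t ≤ t ^ (k + 1) * t ^ (k + 1) := Nat.mul_le_mul hb hb
      _ ≤ (2 ^ (k + 1)) ^ (k + 1) * (2 ^ (k + 1)) ^ (k + 1) :=
          Nat.mul_le_mul (Nat.pow_le_pow_left hhi _) (Nat.pow_le_pow_left hhi _)
      _ = 2 ^ (2 * (k + 1) * (k + 1)) := by rw [← pow_mul, ← pow_add]; congr 1; ring
      _ ≤ 2 ^ (3 * (t - 2)) :=
          Nat.pow_le_pow_right two_pos (by have := two_quad k hk5; omega)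
      _ = 8 ^ (t - 2) := by rw [pow_mul]; norm_num
      _ ≤ _ := Nat.pow_le_pow_left (by norm_num) _
  omega

theorem plane_check : ∀ p ∈ [11, 13, 17, 19, 23], ((List.range p).all fun z =>
    (p - 1) % z != 0 || (List.range p).all fun m =>
      m == 0 || decide (49 * p ≤
        60 * ((4 * z + m - 1) / m + m * ((p ^ 2 - 1 + (24 * z - 1)) / (24 * z))))) = true := by
  decide +kernel

theorem plane_small {p : ℕ} (h29 : p < 29) (hpp : p.Prime) (hp : 11 ≤ p) {z : ℕ} (hzp : z < p)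
    (hz : (p - 1) % z = 0) {m : ℕ} (hmp : m < p) (hm : 1 ≤ m) :
    49 * p ≤ 60 * ((4 * z + m - 1) / m + m * ((p ^ 2 - 1 + (24 * z - 1)) / (24 * z))) := by
  have hmem : p ∈ [11, 13, 17, 19, 23] := by
    interval_cases p <;> first | decide | exact absurd hpp (by norm_num)
  have h := plane_check p hmem
  simp only [List.all_eq_true, List.mem_range, Bool.or_eq_true, bne_iff_ne, beq_iff_eq,
    decide_eq_true_eq] at h
  exact ((h z hzp).resolve_left fun h => h hz) m hmp |>.resolve_left (by omega)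

/-- The plane: `4 z` classes and `(p ^ 2 - 1) / (24 z)` orbits, spread over `m` blocks. -/
theorem plane_numeric {p z m O k o : ℕ} (hpp : p.Prime) (hp : 11 ≤ p) (hz : z ∣ p - 1)
    (hm : 1 ≤ m) (hO : p ^ 2 - 1 ≤ 24 * z * O) (hk : 4 * z ≤ m * k) (ho : m * O ≤ o) :
    49 * p ≤ 60 * (k + o) := by
  have hz0 : 0 < z := Nat.pos_of_dvd_of_pos hz (by omega)
  rcases Nat.lt_or_ge p 29 with h29 | h29
  · have hsq : 11 * 11 ≤ p ^ 2 := by rw [sq]; exact Nat.mul_le_mul hp hp
    have hO1 : 1 ≤ O := by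
      by_contra h
      obtain rfl : O = 0 := by omega
      omega
    rcases Nat.lt_or_ge m p with hmp | hmp
    · have h := plane_small h29 hpp hp (z := z)
        (by have := Nat.le_of_dvd (by omega) hz; omega) (Nat.mod_eq_zero_of_dvd hz)
        hmp hm
      have h1 : (4 * z + m - 1) / m ≤ k := by
        refine Nat.le_of_lt_succ ((Nat.div_lt_iff_lt_mul (by omega)).2 ?_)
        rw [Nat.succ_eq_add_one, Nat.add_mul k 1 m, Nat.one_mul, Nat.mul_comm k m]
        omega
      have h2 : (p ^ 2 - 1 + (24 * z - 1)) / (24 * z) ≤ O := by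
        refine Nat.le_of_lt_succ ((Nat.div_lt_iff_lt_mul (by omega)).2 ?_)
        rw [Nat.succ_eq_add_one, Nat.add_mul O 1, Nat.one_mul, Nat.mul_comm O]
        omega
      have h3 := Nat.mul_le_mul_left m h2
      omega
    · have h2 := Nat.mul_le_mul hmp hO1
      omega
  obtain ⟨j, hj⟩ := hz
  have hj0 : 1 ≤ j := Nat.one_le_iff_ne_zero.2 fun e => by subst e; omega
  have e1 : (p : ℤ) - 1 = z * j := by
    have : ((p - 1 : ℕ) : ℤ) = ((z * j : ℕ) : ℤ) := by rw [hj]
    push_cast [show 1 ≤ p by omega] at this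
    exact this
  have e2 : (j : ℤ) * (p + 1) ≤ 24 * O := by
    have h1 : ((p ^ 2 - 1 : ℕ) : ℤ) ≤ ((24 * z * O : ℕ) : ℤ) := by exact_mod_cast hO
    push_cast [show 1 ≤ p ^ 2 from Nat.one_le_pow _ _ (by omega)] at h1
    refine le_of_mul_le_mul_left ?_ (by exact_mod_cast hz0 : (0 : ℤ) < z)
    calc (z : ℤ) * (j * (p + 1)) = (p - 1) * (p + 1) := by rw [e1]; ring
      _ = (p : ℤ) ^ 2 - 1 := by ring
      _ ≤ _ := h1.trans (le_of_eq (by ring))
  set J := j * m with hJ
  have hJ0 : 1 ≤ J := Nat.mul_pos hj0 hm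
  have g1 : 4 * ((p : ℤ) - 1) ≤ J * k := by
    have h1 : ((4 * z * j : ℕ) : ℤ) ≤ ((m * k * j : ℕ) : ℤ) := by
      exact_mod_cast Nat.mul_le_mul_right j hk
    push_cast at h1
    rw [e1, hJ]; push_cast
    linarith [h1]
  have g2 : (J : ℤ) * (p + 1) ≤ 24 * o := by
    have h1 : ((m * O : ℕ) : ℤ) ≤ o := by exact_mod_cast ho
    push_cast at h1
    rw [hJ]; push_cast
    nlinarith [h1, e2]
  have key : (0 : ℤ) ≤ (p : ℤ) * (5 * J ^ 2 - 98 * J + 480) + 5 * J ^ 2 - 480 := by
    have hp' : (29 : ℤ) ≤ p := by exact_mod_cast h29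
    rcases Nat.lt_or_ge J 10 with h10 | h10
    · interval_cases J <;> norm_num <;> linarith
    · have : (10 : ℤ) ≤ J := by exact_mod_cast h10
      have q0 : (0 : ℤ) ≤ 5 * (J : ℤ) ^ 2 - 98 * J + 480 := by nlinarith
      nlinarith
  have goal : 98 * (p : ℤ) * J ≤ 120 * (k + o) * J := by nlinarith
  have : 98 * (p : ℤ) ≤ 120 * (k + o) :=
    le_of_mul_le_mul_right goal (by exact_mod_cast hJ0)
  omega

/-- The check for a finite case. -/
def finiteCheck (p w I : ℕ) : Bool :=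
  (List.range p).all fun z =>
    (p - 1) % z != 0 || [(1, 1), (2, 2), (6, 3), (42, 4), (I, 5)].all fun qk =>
      (List.range p).all fun m' =>
        49 * p ≤ 60 * ((z + (qk.2 - 1) * (z / Nat.gcd z w) + m') / (m' + 1) +
          (m' + 1) * ((p ^ w - 1 + (z * qk.1 - 1)) / (z * qk.1)))

theorem finite_checks : ∀ c ∈ [(11, 3), (13, 3), (17, 3), (19, 3), (23, 3), (29, 3), (31, 3), (11, 4),
    (13, 4), (17, 4), (19, 4), (11, 8), (13, 8)],
    finiteCheck c.1 c.2 (scalarBound c.2) = true := by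
  decide +kernel

/-- The finitely many cases settled by the sum of classes and orbits. -/
theorem finite_numeric {p w z q kq k o O m : ℕ} (hpp : p.Prime) (hp : 11 ≤ p)
    (hw : (w = 3 ∧ p ≤ 31) ∨ (w = 4 ∧ p ≤ 19) ∨ (w = 8 ∧ p ≤ 13)) (hz : z ∣ p - 1) (hq : 1 ≤ q)
    (hqI : q ≤ scalarBound w) (h1 : 1 ≤ kq) (h2 : 2 ≤ q → 2 ≤ kq) (h3 : 3 ≤ q → 3 ≤ kq)
    (h4 : 7 ≤ q → 4 ≤ kq) (h5 : 43 ≤ q → 5 ≤ kq) (hm : 1 ≤ m)
    (hk : z + (kq - 1) * (z / Nat.gcd z w) ≤ m * k) (hO : p ^ w - 1 ≤ O * (z * q))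
    (ho : m * O ≤ o) : 49 * p ≤ 60 * (k + o) := by
  have hw0 : w ≠ 0 := by omega
  have hpw : 11 ≤ p ^ w := hp.trans (Nat.le_self_pow hw0 p)
  have hO1 : 1 ≤ O := Nat.one_le_iff_ne_zero.2 fun e => by subst e; omega
  rcases Nat.lt_or_ge m (p + 1) with hmp | hmp
  swap
  · have := Nat.mul_le_mul hmp hO1
    omega
  have hmem : (p, w) ∈ [(11, 3), (13, 3), (17, 3), (19, 3), (23, 3), (29, 3), (31, 3), (11, 4),
      (13, 4), (17, 4), (19, 4), (11, 8), (13, 8)] := by
    rcases hw with ⟨rfl, hb⟩ | ⟨rfl, hb⟩ | ⟨rfl, hb⟩ <;>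
      interval_cases p <;> first | decide | exact absurd hpp (by norm_num)
  have h := finite_checks _ hmem
  simp only [finiteCheck, List.all_eq_true, List.mem_range, Bool.or_eq_true, bne_iff_ne,
    decide_eq_true_eq] at h
  have hz0 : 0 < z := Nat.pos_of_dvd_of_pos hz (by omega)
  have hzp : z < p := by have := Nat.le_of_dvd (by omega) hz; omega
  obtain ⟨qm, km, hmem', hqm, hkm⟩ : ∃ qm km, (qm, km) ∈
      [(1, 1), (2, 2), (6, 3), (42, 4), (scalarBound w, 5)] ∧ q ≤ qm ∧ km ≤ kq := by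
    rcases Nat.lt_or_ge 42 q with c4 | c4
    · exact ⟨_, 5, by simp, hqI, h5 c4⟩
    rcases Nat.lt_or_ge 6 q with c3 | c3
    · exact ⟨42, 4, by simp, c4, h4 c3⟩
    rcases Nat.lt_or_ge 2 q with c2 | c2
    · exact ⟨6, 3, by simp, c3, h3 c2⟩
    rcases Nat.lt_or_ge 1 q with c1 | c1
    · exact ⟨2, 2, by simp, c2, h2 c1⟩
    exact ⟨1, 1, by simp, c1, h1⟩
  have hc := ((h z hzp).resolve_left fun h' => h' (Nat.mod_eq_zero_of_dvd hz)) (qm, km) hmem'
    (m - 1) (by omega)
  dsimp only at hc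
  rw [Nat.sub_add_cancel hm] at hc
  refine hc.trans (Nat.mul_le_mul_left _ (Nat.add_le_add ?_ ?_))
  · refine Nat.le_of_lt_succ ((Nat.div_lt_iff_lt_mul (by omega)).2 ?_)
    have := Nat.mul_le_mul_right (z / Nat.gcd z w) (Nat.sub_le_sub_right hkm 1)
    rw [Nat.succ_eq_add_one, Nat.add_mul k 1 m, Nat.one_mul, Nat.mul_comm k m]
    omega
  · refine le_trans (Nat.mul_le_mul_left _ ?_) ho
    have hpos : 0 < z * qm := Nat.mul_pos hz0 (hq.trans hqm)
    refine Nat.le_of_lt_succ ((Nat.div_lt_iff_lt_mul hpos).2 ?_)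
    have := Nat.mul_le_mul_left O (Nat.mul_le_mul_left z hqm)
    rw [Nat.succ_eq_add_one, Nat.add_mul O 1, Nat.one_mul]
    omega

end CfsgLib.Solvable.ClassLinearBound
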