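import Cfsg.Agent.Lib.Solvable.ClassBound.ScalarIndex
import Cfsg.Agent.Lib.Solvable.ClassLinearBound.Numeric

/-!
# The index of the kernel on a symplectic layer

With proper divisors in place of halvings, and separately the bound of the square of the dimension
for the kernel modulo the scalars.
-/

set_option autoImplicit false
set_option linter.unusedSectionVars false

namespace CfsgLib.Solvable.ClassLinearBound

open Subgroup Module CfsgLib.Solvable.ClassBound

variable {X : Type*} [Group X] [Finite X]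
variable (A E : Subgroup X) [E.Normal] (hA : ∀ a ∈ A, ∀ x : X, a * x = x * a) (hAE : A ≤ E)
  (hE : ∀ e ∈ E, ∀ f ∈ E, e * f * e⁻¹ * f⁻¹ ∈ A)
  (hC : ∀ x : X, (∀ e ∈ E, x * e = e * x) → x ∈ A)

include hA hAE in
theorem relIndex_fixedPart_dvd {S T : Set X} (h : S ⊆ T) (hlt : fixedPart E T < fixedPart E S) :
    A.relIndex (fixedPart E T) ∣ A.relIndex (fixedPart E S) ∧
      A.relIndex (fixedPart E T) < A.relIndex (fixedPart E S) := by
  have hle : fixedPart E T ≤ fixedPart E S := inf_le_inf_left E (centralizer_le h)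
  have e := relIndex_mul_relIndex A _ _ (le_fixedPart A E hA hAE) hle
  refine ⟨e ▸ dvd_mul_right _ _, ?_⟩
  rw [← e]
  have h0 : 0 < A.relIndex (fixedPart E T) :=
    Nat.pos_of_ne_zero (by rw [relIndex]; exact index_ne_zero_of_finite)
  refine lt_mul_of_one_lt_right h0 ?_
  have h1 : (fixedPart E T).relIndex (fixedPart E S) ≠ 0 := by
    rw [relIndex]; exact index_ne_zero_of_finite
  have h2 : (fixedPart E T).relIndex (fixedPart E S) ≠ 1 :=
    fun h => hlt.not_ge (relIndex_eq_one.1 h)
  omega

include hA hAE hE hC in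
theorem relIndex_fix_le_cd : ∀ (n : ℕ) (S : Set X), S ⊆ E → Nat.card (fixedPart E S) ≤ n →
    A.relIndex (fixedPart E S) ≤ 100 →
    (fixModulo A hA (E : Set X)).relIndex (fixModulo A hA S) ≤ cd (A.relIndex (fixedPart E S)) := by
  intro n
  induction n with
  | zero => intro S _ h; exact absurd h (Nat.card_pos (α := fixedPart E S)).not_ge
  | succ n ih =>
    intro S hS hn h100
    have hpos : 0 < A.relIndex (fixedPart E S) :=
      Nat.pos_of_ne_zero (by rw [relIndex]; exact index_ne_zero_of_finite)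
    by_cases h : fixedPart E S ≤ A
    · refine le_trans (le_of_eq ?_) (one_le_cd _ h100 hpos)
      exact relIndex_eq_one.2 (fixModulo_le A E hA hAE hE hS h)
    obtain ⟨z, hz, hzA⟩ := SetLike.not_le_iff_exists.1 h
    obtain ⟨g, hg, hgz⟩ : ∃ g ∈ E, g * z ≠ z * g := by
      by_contra hno
      push Not at hno
      exact hzA (hC z fun e he => (hno e he).symm)
    obtain ⟨h1, -, hlt, hmono⟩ := step A E hA hAE hE hS hg hz hgz
    obtain ⟨hdvd, hlt'⟩ := relIndex_fixedPart_dvd A E hA hAE (Set.subset_insert g S) hlt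
    have hcard : Nat.card (fixedPart E (insert g S)) ≤ n := by
      by_contra hgt
      exact hlt.ne (eq_of_le_of_card_ge hlt.le (by omega))
    have hsub : fixModulo A hA (E : Set X) ≤ fixModulo A hA (insert g S) :=
      fun c hc s hs => hc s (Set.insert_subset hg hS hs)
    refine le_trans ?_ (cd_step _ h100 _ hlt' hdvd).2
    rw [← relIndex_mul_relIndex _ _ _ hsub hmono, mul_comm]
    exact Nat.mul_le_mul h1 (ih _ (Set.insert_subset hg hS) hcard (by omega))

include hA hAE hE hC in
/-- The kernel on the layer has small index. -/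
theorem index_fix_le_layerBound (hn : A.relIndex E ≤ 100) :
    (fixModulo A hA (E : Set X)).index ≤ layerBound (A.relIndex E) := by
  have hempty : fixedPart E (∅ : Set X) = E :=
    inf_eq_left.2 fun x _ => mem_centralizer_iff.2 fun s hs => absurd hs (Set.notMem_empty s)
  by_cases h : E ≤ A
  · refine le_trans (le_of_eq ?_) (le_max_left _ _)
    rw [index_eq_one, eq_top_iff]
    intro c _ e he
    have := hA e (h he) c
    rw [← this, mul_inv_cancel_right, mul_inv_cancel]
    exact one_mem A
  obtain ⟨z, hz, hzA⟩ := SetLike.not_le_iff_exists.1 h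
  obtain ⟨g, hg, hgz⟩ : ∃ g ∈ E, g * z ≠ z * g := by
    by_contra hno
    push Not at hno
    exact hzA (hC z fun e he => (hno e he).symm)
  have hgA : g ∉ A := fun hgA => hgz (hA g hgA z)
  have hS : (∅ : Set X) ⊆ (E : Set X) := Set.empty_subset _
  obtain ⟨-, -, hlt, -⟩ := step A E hA hAE hE hS hg (by rw [hempty]; exact hz) hgz
  obtain ⟨hdvd, hlt'⟩ := relIndex_fixedPart_dvd A E hA hAE (Set.subset_insert g ∅) hlt
  rw [hempty] at hdvd hlt'
  have hsub : fixModulo A hA (E : Set X) ≤ fixModulo A hA (insert g ∅) :=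
    fun c hc s hs => hc s (Set.insert_subset hg hS hs)
  refine le_trans ?_ (layerBound_step _ hn _ hlt' hdvd)
  rw [← relIndex_mul_index hsub, mul_comm]
  refine Nat.mul_le_mul ?_ (relIndex_fix_le_cd A E hA hAE hE hC _ _ (Set.insert_subset hg hS)
    le_rfl (by omega))
  classical
  haveI : Fintype (E ⧸ A.subgroupOf E) := Fintype.ofFinite _
  let bad : E ⧸ A.subgroupOf E := QuotientGroup.mk ⟨g⁻¹, inv_mem hg⟩
  have hbad : Nat.card {q : E ⧸ A.subgroupOf E // q ≠ bad} = A.relIndex E - 1 := by
    rw [relIndex, Subgroup.index, Nat.card_eq_fintype_card, Nat.card_eq_fintype_card,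
      Fintype.card_subtype_compl, Fintype.card_subtype_eq]
  rw [← hbad, ← relIndex_top_right]
  refine relIndex_le_of_map le_top (fun c => ⟨QuotientGroup.mk
    ⟨_, mul_mem (inv_mem hg) (Normal.conj_mem ‹E.Normal› g hg (c : X))⟩, fun e => ?_⟩)
    fun c d e => ?_
  · have h1 := mem_subgroupOf.1 (QuotientGroup.eq.1 e)
    simp only [coe_mul, Subgroup.coe_inv] at h1
    refine hgA ?_
    have h2 : (c : X) * g⁻¹ * (c : X)⁻¹ ∈ A := by simpa [mul_assoc] using h1
    have h3 : g⁻¹ ∈ A := by
      have e3 : (c : X)⁻¹ * ((c : X) * g⁻¹ * (c : X)⁻¹) * c = g⁻¹ := by group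
      rw [← hA _ h2, inv_mul_cancel_right] at e3
      exact e3 ▸ h2
    exact inv_mem_iff.1 h3
  · have h1 := mem_subgroupOf.1 (QuotientGroup.eq.1 (congrArg Subtype.val e))
    simp only [coe_mul, Subgroup.coe_inv] at h1
    intro s hs
    rcases Set.mem_insert_iff.1 hs with e0 | hs
    · have h2 : ((c : X) * g * (c : X)⁻¹)⁻¹ * ((d : X) * g * (d : X)⁻¹) ∈ A := by
        simpa [mul_assoc] using h1
      rw [e0]
      have e2 : (c : X)⁻¹ * d * g * ((c : X)⁻¹ * d)⁻¹ * g⁻¹ =
          g * ((c : X)⁻¹ * (((c : X) * g * (c : X)⁻¹)⁻¹ * ((d : X) * g * (d : X)⁻¹)) * c) * g⁻¹ := by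
        group
      rw [e2, ← hA _ h2, inv_mul_cancel_right, ← hA _ h2, mul_inv_cancel_right]
      exact h2
    · exact absurd hs (Set.notMem_empty s)

variable {K V : Type*} [Field K] [AddCommGroup V] [Module K V] [Finite V] [Nontrivial V]

include hA hAE hE hC in
/-- The kernel on the layer modulo the scalars has at most `w ^ 2` elements. -/
theorem relIndex_fix_le_sq (ρ : X →* Module.End K V)
    (hscal : ∀ a ∈ A, ∃ c : K, ρ a = c • (1 : Module.End K V))
    (hinj : ∀ x : X, ρ x = 1 → x = 1) :
    A.relIndex (fixModulo A hA (E : Set X)) ≤ finrank K V ^ 2 := by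
  classical
  haveI : Module.Finite K V := Module.Finite.of_finite
  set D := fixModulo A hA (E : Set X) with hD
  haveI : Fintype (D ⧸ A.subgroupOf D) := Fintype.ofFinite _
  let r : D ⧸ A.subgroupOf D → X := fun q => ((Quotient.out q : D) : X)
  have hval : ∀ (q : D ⧸ A.subgroupOf D) (f : E), ∃ c : K,
      ρ f * ρ (r q) * ρ ((f : X)⁻¹) = c • ρ (r q) := by
    intro q f
    have hm : (f : X) * r q * (f : X)⁻¹ * (r q)⁻¹ ∈ A := by
      have := inv_mem ((Quotient.out q : D).2 f f.2)
      simpa [r, mul_assoc] using this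
    obtain ⟨c, hc⟩ := hscal _ hm
    refine ⟨c, ?_⟩
    rw [← map_mul, ← map_mul, show (f : X) * r q * (f : X)⁻¹ =
      ((f : X) * r q * (f : X)⁻¹ * (r q)⁻¹) * r q by group, map_mul, hc, smul_mul_assoc, one_mul]
  choose c hc using hval
  have hsep : ∀ q q', q ≠ q' → ∃ f : E, c q f ≠ c q' f := by
    intro q q' hne
    by_contra hall
    push Not at hall
    refine hne ?_
    rw [← Quotient.out_eq q, ← Quotient.out_eq q']
    refine QuotientGroup.eq.2 (mem_subgroupOf.2 (hC _ fun e he => ?_))
    simp only [coe_mul, Subgroup.coe_inv]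
    have hq : ∀ q : D ⧸ A.subgroupOf D,
        ρ ((e * r q * e⁻¹) * (r q)⁻¹) = c q ⟨e, he⟩ • (1 : Module.End K V) := fun q => by
      rw [map_mul, map_mul, map_mul, hc q ⟨e, he⟩, smul_mul_assoc, ← map_mul, mul_inv_cancel,
        map_one]
    have h1 : (e * r q * e⁻¹) * (r q)⁻¹ = (e * r q' * e⁻¹) * (r q')⁻¹ := by
      refine inv_mul_eq_one.1 (hinj _ ?_)
      rw [map_mul, hq q', ← hall ⟨e, he⟩, ← hq q, ← map_mul, inv_mul_cancel, map_one]
    show (r q)⁻¹ * r q' * e = e * ((r q)⁻¹ * r q')
    have h2 : (r q)⁻¹ * r q' = e * ((r q)⁻¹ * r q') * e⁻¹ := by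
      set a := e * r q * e⁻¹ * (r q)⁻¹ with ha
      have e1 : e * r q * e⁻¹ = a * r q := by rw [ha]; group
      have e2 : e * r q' * e⁻¹ = a * r q' := by rw [h1]; group
      calc (r q)⁻¹ * r q' = (a * r q)⁻¹ * (a * r q') := by group
        _ = (e * r q * e⁻¹)⁻¹ * (e * r q' * e⁻¹) := by rw [e1, e2]
        _ = _ := by group
    calc (r q)⁻¹ * r q' * e = e * ((r q)⁻¹ * r q') * e⁻¹ * e := by rw [← h2]
      _ = _ := by rw [inv_mul_cancel_right]
  have hli : LinearIndependent K fun q => ρ (r q) := by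
    rw [linearIndependent_iff']
    intro s
    induction s using Finset.induction_on with
    | empty => simp
    | insert j s hj ih =>
      intro g hg i hi
      have hs : ∀ i ∈ s, g i = 0 := fun i hi => by
        obtain ⟨f, hf⟩ := hsep i j (fun e => hj (e ▸ hi))
        have h1 : ∑ k ∈ insert j s, (g k * c k f) • ρ (r k) = 0 := by
          have := congrArg (fun T => ρ (f : X) * T * ρ ((f : X)⁻¹)) hg
          simp only [Finset.mul_sum, Finset.sum_mul, mul_zero, zero_mul] at this
          rw [← this]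
          refine Finset.sum_congr rfl fun k _ => ?_
          rw [mul_smul_comm, smul_mul_assoc, hc, smul_smul]
        have h2 : ∑ k ∈ s, (g k * (c k f - c j f)) • ρ (r k) = 0 := by
          have h3 : ∑ k ∈ insert j s, (g k * (c k f - c j f)) • ρ (r k) = 0 := by
            simp only [mul_sub, sub_smul, Finset.sum_sub_distrib, h1]
            simp only [mul_comm _ (c j f), mul_smul, ← Finset.smul_sum, hg, smul_zero, sub_zero]
          rwa [Finset.sum_insert hj, sub_self, mul_zero, zero_smul, zero_add] at h3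
        exact (mul_eq_zero.1 (ih _ h2 i hi)).resolve_right (sub_ne_zero.2 hf)
      rcases Finset.mem_insert.1 hi with rfl | hi
      · rw [Finset.sum_insert hj, Finset.sum_eq_zero (fun k hk => by rw [hs k hk, zero_smul]),
          add_zero] at hg
        refine (smul_eq_zero.1 hg).resolve_right fun h0 => ?_
        have h1 : ρ (r i) * ρ (r i)⁻¹ = 1 := by rw [← map_mul, mul_inv_cancel, map_one]
        rw [h0, zero_mul] at h1
        exact zero_ne_one h1
      · exact hs i hi
  rw [relIndex, Subgroup.index, Nat.card_eq_fintype_card]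
  refine hli.fintype_card_le_finrank.trans (le_of_eq ?_)
  rw [Module.finrank_linearMap, sq]

end CfsgLib.Solvable.ClassLinearBound
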