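import Cfsg.Agent.Lib.Solvable.ClassBound.Counting

/-!
# Counting classes

Classes above the classes of a quotient by a central subgroup, the class equation for at most four
classes, and classes inside an abelian normal subgroup.
-/

set_option autoImplicit false
set_option linter.unusedSectionVars false

namespace CfsgLib.Solvable.ClassLinearBound

open Subgroup CfsgLib.Solvable.ClassBound

variable {G : Type*} [Group G] [Finite G]

/-- Representatives of different classes modulo a central subgroup `A` give classes coset by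
coset, up to the commutators `T i` in `A`. -/
theorem sum_relIndex_le_classNum (A : Subgroup G) (hA : ∀ a ∈ A, ∀ x : G, a * x = x * a)
    {ι : Type*} [Fintype ι] (g : ι → G) (T : ι → Subgroup G)
    (hne : ∀ i j, ∀ x : G, x * g i * x⁻¹ * (g j)⁻¹ ∈ A → i = j)
    (hT : ∀ i, ∀ x : G, x * g i * x⁻¹ * (g i)⁻¹ ∈ A → x * g i * x⁻¹ * (g i)⁻¹ ∈ T i) :
    ∑ i, (T i).relIndex A ≤ classNum G := by
  classical
  calc ∑ i, (T i).relIndex A = Nat.card ((i : ι) × (A ⧸ (T i).subgroupOf A)) := by
        rw [Nat.card_sigma]; rfl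
    _ ≤ _ := Nat.card_le_card_of_injective
        (fun s => ConjClasses.mk (((Quotient.out s.2 : A) : G) * g s.1)) ?_
  rintro ⟨i, q⟩ ⟨j, q'⟩ e
  obtain ⟨x, hx⟩ := isConj_iff.1 (ConjClasses.mk_eq_mk_iff_isConj.1 e)
  dsimp only at hx
  set a : G := ((Quotient.out q : A) : G) with ha
  set b : G := ((Quotient.out q' : A) : G) with hb
  have haA : a ∈ A := (Quotient.out q : A).2
  have hbA : b ∈ A := (Quotient.out q' : A).2
  have h1 : x * g i * x⁻¹ * (g j)⁻¹ = a⁻¹ * b := by
    calc x * g i * x⁻¹ * (g j)⁻¹ = a⁻¹ * (a * (x * g i)) * x⁻¹ * (g j)⁻¹ := by group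
      _ = a⁻¹ * (x * (a * g i) * x⁻¹) * (g j)⁻¹ := by
          rw [← mul_assoc a x, hA a haA x]; group
      _ = _ := by rw [hx]; group
  obtain rfl := hne i j x (h1 ▸ mul_mem (inv_mem haA) hbA)
  have h2 : a⁻¹ * b ∈ T i := h1 ▸ hT i x (h1 ▸ mul_mem (inv_mem haA) hbA)
  refine Sigma.ext rfl (heq_of_eq ?_)
  rw [← Quotient.out_eq q, ← Quotient.out_eq q']
  exact QuotientGroup.eq.2 (mem_subgroupOf.2 h2)

/-- If the commutators in the central subgroup `A` lie in `T` then each non-trivial class of the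
quotient carries `|A : T|` classes. -/
theorem classNum_lower (A : Subgroup G) [A.Normal] (hA : ∀ a ∈ A, ∀ x : G, a * x = x * a)
    (T : Subgroup G) (hT : ∀ g x : G, x * g * x⁻¹ * g⁻¹ ∈ A → x * g * x⁻¹ * g⁻¹ ∈ T) :
    Nat.card A + (classNum (G ⧸ A) - 1) * T.relIndex A ≤ classNum G := by
  classical
  haveI : Fintype (ConjClasses (G ⧸ A)) := Fintype.ofFinite _
  have hsec : ∀ c : ConjClasses (G ⧸ A), ∃ g : G, ConjClasses.mk (g : G ⧸ A) = c := fun c => by
    obtain ⟨q, rfl⟩ := ConjClasses.mk_surjective c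
    obtain ⟨g, rfl⟩ := QuotientGroup.mk_surjective q
    exact ⟨g, rfl⟩
  choose sec hsec using hsec
  set one : ConjClasses (G ⧸ A) := ConjClasses.mk 1 with hone
  refine le_trans (le_of_eq ?_) (sum_relIndex_le_classNum A hA sec
    (fun c => if c = one then ⊥ else T) (fun c d x h => ?_) fun c x h => ?_)
  · rw [← Finset.add_sum_erase _ _ (Finset.mem_univ one), if_pos rfl, relIndex_bot_left,
      Finset.sum_congr rfl (g := fun _ => T.relIndex A) (fun c hc => by
        rw [if_neg (Finset.ne_of_mem_erase hc)]), Finset.sum_const, smul_eq_mul,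
      Finset.card_erase_of_mem (Finset.mem_univ one), Finset.card_univ,
      ← Nat.card_eq_fintype_card]
    rfl
  · rw [← hsec c, ← hsec d]
    refine ConjClasses.mk_eq_mk_iff_isConj.2 (isConj_iff.2 ⟨(x : G ⧸ A), ?_⟩)
    rw [← QuotientGroup.mk_inv, ← QuotientGroup.mk_mul, ← QuotientGroup.mk_mul]
    refine (QuotientGroup.eq_one_iff _).2 h |> fun e => ?_
    rwa [QuotientGroup.mk_mul, QuotientGroup.mk_inv, mul_inv_eq_one] at e
  · split_ifs with hc
    · have h1 : sec c ∈ A := by
        have := ((hsec c).trans hc).trans hone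
        rw [ConjClasses.mk_eq_mk_iff_isConj] at this
        exact (QuotientGroup.eq_one_iff _).1 (isConj_one_left.1 this)
      rw [← hA _ h1 x, mul_inv_cancel_right, mul_inv_cancel, mem_bot]
    · exact hT _ x h

/-- The class sizes. -/
theorem exists_class_sizes :
    ∃ f : ConjClasses G → ℕ, f (ConjClasses.mk 1) = 1 ∧ (∀ c, 0 < f c ∧ f c ∣ Nat.card G) ∧
      ∀ [Fintype (ConjClasses G)], ∑ c, f c = Nat.card G := by
  classical
  haveI : Fintype G := Fintype.ofFinite G
  refine ⟨fun c => Nat.card c.carrier, ?_, fun c => ⟨?_, ?_⟩, ?_⟩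
  · dsimp only
    rw [Nat.card_coe_set_eq, Set.ncard_eq_one]
    refine ⟨1, Set.eq_singleton_iff_unique_mem.2 ⟨ConjClasses.mem_carrier_mk, fun x hx => ?_⟩⟩
    rw [ConjClasses.mem_carrier_iff_mk_eq, ConjClasses.mk_eq_mk_iff_isConj] at hx
    exact isConj_one_left.1 hx
  · obtain ⟨x, rfl⟩ := ConjClasses.mk_surjective c
    haveI : Nonempty (ConjClasses.mk x).carrier := ⟨⟨x, ConjClasses.mem_carrier_mk⟩⟩
    exact Nat.card_pos
  · obtain ⟨x, rfl⟩ := ConjClasses.mk_surjective c
    dsimp only
    rw [← ConjAct.orbit_eq_carrier_conjClasses]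
    rw [← Nat.card_congr (MulAction.orbitEquivQuotientStabilizer (ConjAct G) x).symm]
    exact (Subgroup.card_quotient_dvd_card _).trans (dvd_of_eq (Nat.card_congr ConjAct.ofConjAct.toEquiv))
  · intro inst
    rw [← Nat.card_sigma]
    refine Nat.card_congr ((Equiv.sigmaCongrRight fun c => Equiv.subtypeEquivRight fun x => ?_).trans
      (Equiv.sigmaFiberEquiv ConjClasses.mk))
    exact ConjClasses.mem_carrier_iff_mk_eq

/-- Three classes: at most six elements. -/
theorem three_sum {q a b : ℕ} (ha : a ∣ q) (hb : b ∣ q) (hab : b ≤ a) (hb0 : 1 ≤ b)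
    (h : q = 1 + a + b) : q ≤ 6 := by
  by_contra hq
  obtain ⟨u, hu⟩ := ha
  have hu2 : u = 2 := by
    have h1 : 1 < u := by
      by_contra h'
      have : a * u ≤ a * 1 := Nat.mul_le_mul_left a (by omega)
      omega
    by_contra h'
    have : a * 3 ≤ a * u := Nat.mul_le_mul_left a (by omega)
    omega
  subst hu2
  have h2 : b ∣ 2 := by
    have : b ∣ 2 * b := dvd_mul_left b 2
    rw [show q = 2 * b + 2 by omega] at hb
    exact (Nat.dvd_add_right this).1 hb
  have := Nat.le_of_dvd two_pos h2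
  omega

/-- Four classes: at most forty-two elements. -/
theorem four_sum {q a b c : ℕ} (ha : a ∣ q) (hb : b ∣ q) (hc : c ∣ q) (hab : b ≤ a) (hbc : c ≤ b)
    (hc0 : 1 ≤ c) (h : q = 1 + a + b + c) : q ≤ 42 := by
  by_contra hq
  obtain ⟨u, hu⟩ := ha
  have hu' : u = 2 ∨ u = 3 := by
    have h1 : 1 < u := by
      by_contra h'
      have : a * u ≤ a * 1 := Nat.mul_le_mul_left a (by omega)
      omega
    by_contra h'
    have : a * 4 ≤ a * u := Nat.mul_le_mul_left a (by omega)
    omega
  obtain ⟨v, hv⟩ := hb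
  have hv' : 2 ≤ v ∧ v ≤ 5 := by
    constructor
    · by_contra h'
      have : b * v ≤ b * 1 := Nat.mul_le_mul_left b (by omega)
      omega
    · by_contra h'
      have : b * 6 ≤ b * v := Nat.mul_le_mul_left b (by omega)
      rcases hu' with rfl | rfl <;> omega
  obtain ⟨w, hw⟩ := hc
  have key : ∀ {k : ℕ}, 1 ≤ k → k ≤ 6 → q = k * (c + 1) → False := fun {k} hk hk' e => by
    have h1 : c ∣ k * c + k := ⟨w, by rw [← hw, e]; ring⟩
    have h2 := Nat.le_of_dvd hk ((Nat.dvd_add_right (dvd_mul_left c k)).1 h1)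
    have h3 : k * (c + 1) ≤ 6 * (6 + 1) := Nat.mul_le_mul hk' (by omega)
    omega
  rcases hu' with rfl | rfl <;> obtain ⟨hv2, hv5⟩ := hv' <;> interval_cases v
  all_goals first
    | omega
    | exact key (k := 6) (by norm_num) le_rfl (by omega)
    | exact key (k := 4) (by norm_num) (by norm_num) (by omega)
    | exact key (k := 3) (by norm_num) (by norm_num) (by omega)

/-- A group with few classes is small. -/
theorem card_le_of_classNum_le :
    (classNum G ≤ 2 → Nat.card G ≤ 2) ∧ (classNum G ≤ 3 → Nat.card G ≤ 6) ∧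
      (classNum G ≤ 4 → Nat.card G ≤ 42) := by
  classical
  haveI : Fintype (ConjClasses G) := Fintype.ofFinite _
  obtain ⟨f, h1, hf, hsum⟩ := exists_class_sizes (G := G)
  have hk : classNum G = Fintype.card (ConjClasses G) := Nat.card_eq_fintype_card
  set s := Finset.univ.erase (ConjClasses.mk (1 : G)) with hs
  have hcard : s.card + 1 = classNum G := by
    rw [hs, Finset.card_erase_of_mem (Finset.mem_univ _), Finset.card_univ, hk,
      Nat.sub_add_cancel Fintype.card_pos]
  have hq : Nat.card G = 1 + ∑ c ∈ s, f c := by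
    rw [← hsum, hs, ← Finset.add_sum_erase _ _ (Finset.mem_univ (ConjClasses.mk (1 : G))), h1]
  have c0 : s.card = 0 → Nat.card G = 1 := fun h => by
    rw [hq, Finset.card_eq_zero.1 h, Finset.sum_empty, add_zero]
  have c1 : s.card = 1 → Nat.card G ≤ 2 := fun h => by
    obtain ⟨a, ha⟩ := Finset.card_eq_one.1 h
    rw [ha, Finset.sum_singleton] at hq
    have h2 := (hf a).2
    rw [hq] at h2 ⊢
    have := Nat.le_of_dvd one_pos ((Nat.dvd_add_left dvd_rfl).1 h2)
    omega
  have c2 : s.card = 2 → Nat.card G ≤ 6 := fun h => by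
    obtain ⟨a, b, hne, hab⟩ := Finset.card_eq_two.1 h
    rw [hab, Finset.sum_pair hne] at hq
    rcases le_total (f b) (f a) with h' | h'
    · exact three_sum (hf a).2 (hf b).2 h' (hf b).1 (by omega)
    · exact three_sum (hf b).2 (hf a).2 h' (hf a).1 (by omega)
  have c3 : s.card = 3 → Nat.card G ≤ 42 := fun h => by
    obtain ⟨a, b, c, hne1, hne2, hne3, habc⟩ := Finset.card_eq_three.1 h
    rw [habc, Finset.sum_insert (by simp [hne1, hne2]), Finset.sum_pair hne3] at hq
    have sym : ∀ x y z, f x + (f y + f z) = f a + (f b + f c) → f y ≤ f x → f z ≤ f y →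
        Nat.card G ≤ 42 := fun x y z e h1 h2 =>
      four_sum (hf x).2 (hf y).2 (hf z).2 h1 h2 (hf z).1 (by omega)
    rcases le_total (f b) (f a) with h1' | h1' <;> rcases le_total (f c) (f b) with h2' | h2' <;>
      rcases le_total (f c) (f a) with h3' | h3'
    all_goals first
      | exact sym a b c rfl h1' h2'
      | exact sym a c b (by omega) h3' h2'
      | exact sym c a b (by omega) h3' h1'
      | exact sym b a c (by omega) h1' h3'
      | exact sym b c a (by omega) h2' h3'
      | exact sym c b a (by omega) h2' h1'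
      | exact sym a b c rfl (by omega) (by omega)
  refine ⟨fun h => ?_, fun h => ?_, fun h => ?_⟩
  all_goals
    rcases (show s.card = 0 ∨ s.card = 1 ∨ s.card = 2 ∨ s.card = 3 by omega) with e | e | e | e
  all_goals first
    | omega
    | (have := c0 e; omega)
    | (have := c1 e; omega)
    | (have := c2 e; omega)
    | (have := c3 e; omega)

/-- Classes outside and inside an abelian normal subgroup. -/
theorem exists_classes_inside (P : Subgroup G) [P.Normal] (hP : ∀ a ∈ P, ∀ b ∈ P, a * b = b * a) :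
    ∃ o, classNum (G ⧸ P) + o ≤ classNum G ∧ Nat.card P - 1 ≤ o * P.index := by
  classical
  haveI : Fintype G := Fintype.ofFinite G
  haveI : Fintype (ConjClasses G) := Fintype.ofFinite _
  set S : Finset G := Finset.univ.filter (fun g => g ∈ P ∧ g ≠ 1) with hS
  refine ⟨(S.image ConjClasses.mk).card, ?_, ?_⟩
  · rw [← Set.ncard_coe_finset]
    refine classNum_quotient_add_le P _ fun g hg => ?_
    obtain ⟨y, hy, e⟩ := Finset.mem_image.1 (Finset.mem_coe.1 hg)
    obtain ⟨hyP, hy1⟩ := (Finset.mem_filter.1 hy).2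
    obtain ⟨c, rfl⟩ := isConj_iff.1 (ConjClasses.mk_eq_mk_iff_isConj.1 e)
    exact ⟨Normal.conj_mem ‹P.Normal› y hyP c, fun h => hy1 (by
      rwa [mul_inv_eq_one, mul_eq_left] at h)⟩
  · have hcard : S.card = Nat.card P - 1 := by
      rw [hS, show (Finset.univ.filter fun g => g ∈ P ∧ g ≠ 1) =
        (Finset.univ.filter fun g => g ∈ P).erase 1 by ext g; simp [and_comm],
        Finset.card_erase_of_mem (by simp), Nat.card_eq_fintype_card,
        Fintype.card_subtype (fun g => g ∈ P)]
    rw [← hcard, Nat.mul_comm]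
    refine Finset.card_le_mul_card_image _ _ fun c hc => ?_
    obtain ⟨y, hy, rfl⟩ := Finset.mem_image.1 hc
    have hyP := ((Finset.mem_filter.1 hy).2).1
    haveI : Fintype (G ⧸ P) := Fintype.ofFinite _
    rw [Subgroup.index, Nat.card_eq_fintype_card (α := G ⧸ P), ← Finset.card_univ]
    refine Finset.card_le_card_of_surjOn
      (fun u : G ⧸ P => (Quotient.out u : G) * y * (Quotient.out u : G)⁻¹) ?_
    intro g hg
    rw [Finset.coe_filter] at hg
    obtain ⟨x, hx⟩ := isConj_iff.1 (ConjClasses.mk_eq_mk_iff_isConj.1 hg.2.symm)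
    refine ⟨(x : G ⧸ P), Finset.mem_coe.2 (Finset.mem_univ _), ?_⟩
    obtain ⟨t, ht⟩ := QuotientGroup.mk_out_eq_mul P x
    dsimp only
    rw [ht, ← hx]
    calc x * (t : G) * y * (x * (t : G))⁻¹ = x * ((t : G) * y * (t : G)⁻¹) * x⁻¹ := by group
      _ = _ := by rw [hP _ t.2 _ hyP, mul_inv_cancel_right]

/-- Maps determined by the images of a few points. -/
theorem card_le_descFactorial {H W : Type*} [Finite W] (φ : H → W → W) (e : W) (s : Finset W)
    (hs : e ∉ s) (hφ : ∀ h, Function.Injective (φ h)) (he : ∀ h, φ h e = e)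
    (hdet : ∀ h h', (∀ x ∈ s, φ h x = φ h' x) → h = h') :
    Nat.card H ≤ (Nat.card W - 1).descFactorial s.card := by
  classical
  haveI : Fintype W := Fintype.ofFinite W
  let toEmb : H → (s ↪ {x : W // x ≠ e}) := fun h =>
    ⟨fun x => ⟨φ h x, fun hx => hs (hφ h (hx.trans (he h).symm) ▸ x.2)⟩,
      fun x y hxy => Subtype.ext (hφ h (congrArg Subtype.val hxy))⟩
  refine (Nat.card_le_card_of_injective toEmb fun h h' hh => hdet h h' fun x hx => ?_).trans ?_
  · exact congrArg Subtype.val (DFunLike.congr_fun hh (⟨x, hx⟩ : s))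
  · rw [Nat.card_eq_fintype_card, Fintype.card_embedding_eq, Fintype.card_coe,
      Fintype.card_subtype_compl, Fintype.card_subtype_eq, ← Nat.card_eq_fintype_card]

end CfsgLib.Solvable.ClassLinearBound
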