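import Cfsg.Agent.Lib.Solvable.ClassBound.Primitive
import Cfsg.Agent.Lib.Solvable.ClassLinearBound.Chain
import Cfsg.Agent.Lib.Solvable.ClassLinearBound.Counting
import Cfsg.Agent.Lib.Perm.OddBase.Pairing

/-!
# The symplectic layer of a primitive solvable linear group

A primitive solvable group has an abelian normal subgroup `A` spanning a field of degree `h` over
which the dimension is `w`, and the index of `A` is at most `h * (w ^ 2 * i)`, where `i` is the order
of the group induced on a symplectic layer of order `n`.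
-/

set_option autoImplicit false
set_option linter.unusedSectionVars false
set_option linter.style.haveILetI false

universe u v

namespace CfsgLib.Solvable.ClassLinearBound

open Subgroup Module CfsgLib.Solvable.ClassBound
open CfsgLib.Perm.OddBase (IsPairing)

/-- Every solvable group of similitudes of a layer of order `n` induces at most `B`
automorphisms. -/
def ImageLE (n B : ℕ) : Prop :=
  ∀ (Γ W K : Type u) [Group Γ] [Finite Γ] [AddCommGroup W] [Finite W] [DistribMulAction Γ W]
    [Field K] (β : W → W → K), Group.IsSolvable Γ → IsPairing Γ β → Nat.card W = n →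
      (DistribMulAction.toAddMonoidEnd Γ W).ker.index ≤ B

variable {F : Type v} {V : Type u} [Field F] [Finite F] [AddCommGroup V] [Module F V] [Finite V]

/-- The data of a primitive solvable group. -/
structure Layer (L : Subgroup (V ≃ₗ[F] V)) where
  A : Subgroup L
  E : Subgroup L
  h : ℕ
  w : ℕ
  n : ℕ
  i : ℕ
  A_normal : A.Normal
  A_comm : ∀ a ∈ A, ∀ b ∈ A, a * b = b * a
  dim : h * w = finrank F V
  one_le_h : 1 ≤ h
  one_le_w : 1 ≤ w
  card_dvd : Nat.card A ∣ Nat.card F ^ h - 1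
  card_le : Nat.card A + 1 ≤ Nat.card F ^ h
  classes : Nat.card A ≤ h * classNum L
  index_crude : A.index ≤ h * indexBound w
  index_le : A.index ≤ h * (w ^ 2 * i)
  n_pos : 1 ≤ n
  n_le : n ≤ w ^ 2
  square : ∃ e, n = e * e
  primes : ∀ ℓ : ℕ, ℓ.Prime → ℓ ∣ n → ℓ ∣ w ∧ ℓ ∣ Nat.card A
  i_layer : n ≤ 100 → i ≤ layerBound n
  i_image : ∀ B : ℕ, ImageLE.{u} n B → i ≤ B
  central : h = 1 → ∀ a ∈ A, ∀ x : L, a * x = x * a
  scalar : h = 1 → ∀ a ∈ A, ∃ c : F, ∀ v, (a : V ≃ₗ[F] V) v = c • v
  scalar_mem : ∀ g : L, (∀ x : L, g * x = x * g) → g ∈ A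
  E_normal : E.Normal
  A_le : A ≤ E
  n_eq : n = A.relIndex E
  comm : ∀ e ∈ E, ∀ f ∈ E, e * f * e⁻¹ * f⁻¹ ∈ A
  cent : h = 1 → ∀ x : L, (∀ e ∈ E, x * e = e * x) → x ∈ A
  pow_mem : ∀ e ∈ E, e ^ w ∈ A
  kernel : h = 1 → ∀ T : Subgroup L, A ≤ T →
    (∀ x ∈ T, ∀ e ∈ E, x * e * x⁻¹ * e⁻¹ ∈ A) → A.relIndex T ≤ w ^ 2

variable {L : Subgroup (V ≃ₗ[F] V)}

/-- A primitive solvable group has a layer. -/
theorem exists_layer {r : ℕ} [Fact r.Prime] [CharP F r] [hsol : Group.IsSolvable L]
    (hL : Irred L) (hprim : ∀ B : Submodule F V, IsBlock L B → B = ⊤) : Nonempty (Layer L) := by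
  classical
  obtain ⟨v₀, hv₀⟩ := hL.1
  haveI : Nontrivial V := ⟨⟨v₀, 0, hv₀⟩⟩
  haveI : Module.Finite F V := Module.Finite.of_finite
  obtain ⟨A, ⟨hAn, hA⟩, hAmax⟩ := (Set.toFinite {A : Subgroup L | A.Normal ∧
    ∀ a ∈ A, ∀ b ∈ A, a * b = b * a}).exists_maximal ⟨⊥, inferInstance, fun a ha b hb => by
      rw [mem_bot.1 ha, mem_bot.1 hb]⟩
  haveI := hAn
  let R := spanAlg A
  have hcomm : ∀ x y : R, x * y = y * x := fun x y => Subtype.ext
    (commute_spanAlg (fun a ha => (commute_spanAlg (fun b hb => by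
      rw [Commute, SemiconjBy, ← map_mul, ← map_mul, hA a ha b hb]) x.2).symm) y.2).eq
  letI : CommRing R := { (inferInstance : Ring R) with mul_comm := hcomm }
  haveI : Finite R := Finite.of_injective (fun x : R => ((x : Module.End F V) : V → V))
    (DFunLike.coe_injective.comp Subtype.val_injective)
  haveI : Nontrivial R := ⟨⟨1, 0, fun h => by
    have := LinearMap.congr_fun (congrArg Subtype.val h) v₀
    exact hv₀ this⟩⟩
  haveI : CharP R r := charP_of_injective_algebraMap (algebraMap F R).injective r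
  haveI : ExpChar R r := ExpChar.prime Fact.out
  haveI : Fintype F := Fintype.ofFinite F
  obtain ⟨n, -, hn⟩ := FiniteField.card F r
  have hcop : (r).Coprime (Nat.card A) :=
    ((Fact.out : r.Prime).coprime_iff_not_dvd).2 (not_dvd_card_abelian hL A hA)
  set m := (Nat.card A).totient with hm
  set Q := Fintype.card F ^ m with hQ
  have hQ1 : 1 < Q := Nat.one_lt_pow (Nat.totient_pos.2 Nat.card_pos).ne' Fintype.one_lt_card
  have hpowA : ∀ a ∈ A, toEndHom L a ^ Q = toEndHom L a := fun a ha => by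
    have h1 : Q ≡ 1 [MOD Nat.card A] := by
      refine Nat.ModEq.pow_totient ?_
      rw [hn]; exact hcop.pow_left _
    have h2 : a ^ Q = a := by
      have h3 : (⟨a, ha⟩ : A) ^ Q = ⟨a, ha⟩ ^ 1 := by
        rw [pow_eq_pow_iff_modEq]
        exact h1.of_dvd (orderOf_dvd_natCard _)
      simpa using congrArg Subtype.val h3
    rw [← map_pow, h2]
  have hQr : Q = r ^ ((n : ℕ) * m) := by rw [hQ, hn, ← pow_mul]
  have hpow : ∀ x : R, x ^ Q = x := by
    rintro ⟨x, hx⟩
    induction hx using Algebra.adjoin_induction with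
    | mem x hx =>
      obtain ⟨a, ha, rfl⟩ := hx
      exact Subtype.ext (by simpa using hpowA a ha)
    | algebraMap c =>
      have h1 : (algebraMap F R c) ^ Q = algebraMap F R c := by
        rw [← map_pow, hQ, FiniteField.pow_card_pow]
      exact h1
    | add x y hx hy ihx ihy =>
      have h1 : ((⟨x, hx⟩ : R) + ⟨y, hy⟩) ^ Q = ⟨x, hx⟩ + ⟨y, hy⟩ := by
        rw [hQr, add_pow_char_pow, ← hQr, ihx, ihy]
      exact h1
    | mul x y hx hy ihx ihy =>
      have h1 : ((⟨x, hx⟩ : R) * ⟨y, hy⟩) ^ Q = ⟨x, hx⟩ * ⟨y, hy⟩ := by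
        rw [mul_pow, ihx, ihy]
      exact h1
  have hfield : IsField R := by
    refine ⟨⟨0, 1, zero_ne_one⟩, mul_comm, fun {x} hx0 => ⟨x ^ (Q - 2), ?_⟩⟩
    have e1 : x ^ (Q - 1) * x = x := by rw [← pow_succ, Nat.sub_add_cancel hQ1.le, hpow]
    have hid : x ^ (Q - 1) * x ^ (Q - 1) = x ^ (Q - 1) := by
      have h2 : x ^ (Q - 1) = x ^ (Q - 2) * x := by
        rw [← pow_succ]; congr 1; omega
      conv_lhs => arg 2; rw [h2]
      conv_rhs => rw [h2]
      rw [mul_comm (x ^ (Q - 2)) x, ← mul_assoc, e1]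
    have hne : (x ^ (Q - 1) : R) ≠ 0 := fun h => hx0 (by rw [← e1, h, zero_mul])
    have hone := idempotent_eq_one hL hprim hA (x ^ (Q - 1)).2 (congrArg Subtype.val hid)
      (fun h => hne (Subtype.ext h))
    rw [← pow_succ', show Q - 2 + 1 = Q - 1 by omega]
    exact Subtype.ext hone
  letI : Field R := hfield.toField
  haveI : Module.Finite F R := Module.Finite.of_finite
  haveI : Module.Finite R V := Module.Finite.of_finite
  set h := finrank F R with hh
  set w := finrank R V with hw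
  have hhpos : 1 ≤ h := Module.finrank_pos
  have hwpos : 1 ≤ w := Module.finrank_pos
  have hhw : h * w = finrank F V := Module.finrank_mul_finrank F R V
  have hcardA : Nat.card A + 1 ≤ Nat.card F ^ h := by
    rw [← Module.natCard_eq_pow_finrank (K := F) (V := R), ← Finite.card_option]
    refine Nat.card_le_card_of_injective
      (fun o : Option A => o.elim (0 : R) fun a => ⟨_, mem_spanAlg a.2⟩) ?_
    intro o o' e
    have hne : ∀ a : A, (⟨_, mem_spanAlg a.2⟩ : R) ≠ 0 := fun a e0 => by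
      have := LinearMap.congr_fun (congrArg Subtype.val e0) v₀
      exact hv₀ ((map_eq_zero_iff _ ((a : L) : V ≃ₗ[F] V).injective).1 this)
    rcases o with _ | a <;> rcases o' with _ | a'
    · rfl
    · exact absurd e.symm (hne a')
    · exact absurd e (hne a)
    · exact congrArg some (Subtype.ext (toEndHom_injective L (congrArg Subtype.val e)))
  set X := (conjAlg A).ker with hX
  have hAX : A ≤ X := fun a ha => mem_ker_conjAlg.2 fun b hb => hA a ha b hb
  have hXidx : X.index ≤ h := by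
    rw [hX, Subgroup.index_ker]
    refine le_trans (Nat.card_le_card_of_injective Subtype.val Subtype.val_injective) ?_
    rw [Nat.card_eq_fintype_card]
    exact AlgEquiv.card_le (F := F) (K := R)
  obtain ⟨E, ⟨hEn, hAE, hEX, hEc⟩, hEmax⟩ := (Set.toFinite {E : Subgroup L | E.Normal ∧ A ≤ E ∧
    E ≤ X ∧ ∀ e ∈ E, ∀ f ∈ E, e * f * e⁻¹ * f⁻¹ ∈ A}).exists_maximal ⟨A, hAn, le_rfl, hAX,
      fun e he f hf => mul_mem (mul_mem (mul_mem he hf) (inv_mem he)) (inv_mem hf)⟩
  haveI := hEn
  have hC : X ⊓ centralizer (E : Set L) ≤ A := by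
    set C := X ⊓ centralizer (E : Set L) with hCdef
    haveI : C.Normal := by rw [hCdef]; infer_instance
    by_contra hCA
    let D : ℕ → Subgroup L := fun k => Nat.rec C (fun _ P => ⁅P, P⁆) k
    have hDn : ∀ k, (D k).Normal := fun k => by
      induction k with
      | zero => exact ‹C.Normal›
      | succ k ih => exact @Subgroup.commutator_normal L _ _ _ ih ih
    have hDd : ∀ k, D k ≤ derivedSeries L k := fun k => by
      induction k with
      | zero => exact le_top
      | succ k ih => exact commutator_mono ih ih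
    have hDC : ∀ k, D k ≤ C := fun k => by
      induction k with
      | zero => exact le_rfl
      | succ k ih =>
        haveI := ‹C.Normal›
        exact (commutator_mono ih ih).trans (commutator_le_left C C)
    obtain ⟨k₀, hk₀⟩ := (isSolvable_def (G := L)).1 hsol
    have hex : ∃ k, D k ≤ A := ⟨k₀, (hDd k₀).trans (hk₀ ▸ bot_le)⟩
    obtain ⟨k, hk⟩ : ∃ k, Nat.find hex = k + 1 := by
      rcases hk : Nat.find hex with _ | k
      · have := Nat.find_spec hex
        rw [hk] at this
        exact absurd this hCA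
      · exact ⟨k, hk⟩
    have hk1 : ⁅D k, D k⁆ ≤ A := by
      have := Nat.find_spec hex
      rwa [hk] at this
    have hk2 : ¬ D k ≤ A := Nat.find_min hex (by omega)
    haveI := hDn k
    have hAc : ∀ a ∈ A, ∀ x ∈ X, a * x = x * a := fun a ha x hx =>
      (mem_ker_conjAlg.1 hx a ha).symm
    have hDE : D k ≤ E := by
      refine le_trans le_sup_right (hEmax (y := E ⊔ D k) ⟨@Subgroup.sup_normal _ _ E (D k) hEn (hDn k), hAE.trans le_sup_left,
        sup_le hEX ((hDC k).trans inf_le_left), ?_⟩ le_sup_left)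
      intro x hx y hy
      obtain ⟨e, he, d, hd, rfl⟩ := (mem_sup_of_normal_right (s := E) (t := D k) (ht := hDn k)).1 hx
      obtain ⟨f, hf, c, hc, rfl⟩ := (mem_sup_of_normal_right (s := E) (t := D k) (ht := hDn k)).1 hy
      have hcd : ∀ u ∈ D k, ∀ z ∈ E, z * u = u * z := fun u hu z hz =>
        mem_centralizer_iff.1 ((hDC k hu).2) z hz
      have h1 : e * d * (f * c) * (e * d)⁻¹ * (f * c)⁻¹ =
          (e * f * e⁻¹ * f⁻¹) * (d * c * d⁻¹ * c⁻¹) := by
        have q1 : d * f = f * d := (hcd d hd f hf).symm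
        calc e * d * (f * c) * (e * d)⁻¹ * (f * c)⁻¹
            = e * (d * f) * c * d⁻¹ * e⁻¹ * c⁻¹ * f⁻¹ := by group
          _ = e * f * ((d * c * d⁻¹) * e⁻¹) * c⁻¹ * f⁻¹ := by rw [q1]; group
          _ = e * f * e⁻¹ * ((d * c * d⁻¹ * c⁻¹) * f⁻¹) := by
            rw [← hcd _ (mul_mem (mul_mem hd hc) (inv_mem hd)) _ (inv_mem he)]; group
          _ = _ := by
            rw [← hcd _ (mul_mem (mul_mem (mul_mem hd hc) (inv_mem hd)) (inv_mem hc)) _
              (inv_mem hf)]; group
      rw [h1]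
      exact mul_mem (hEc e he f hf) (hk1 (commutator_mem_commutator hd hc))
    refine hk2 ((le_inf hDE (hDC k)).trans (hAmax (y := E ⊓ C) ⟨Subgroup.normal_inf_normal E C, ?_⟩ ?_))
    · intro x hx y hy
      exact (mem_centralizer_iff.1 hy.2.2 x hx.1)
    · intro a ha
      exact ⟨hAE ha, hAX ha, mem_centralizer_iff.2 fun z hz => (hAc a ha z (hEX hz)).symm⟩
  haveI hXn : X.Normal := by rw [hX]; infer_instance
  have hAc : ∀ a ∈ A, ∀ x ∈ X, a * x = x * a := fun a ha x hx => (mem_ker_conjAlg.1 hx a ha).symm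
  let ρ : X →* Module.End R V :=
  { toFun := fun g =>
    { toFun := fun v => ((g : L) : V ≃ₗ[F] V) v
      map_add' := map_add _
      map_smul' := fun x v => by
        have hc : Commute (toEndHom L g) (x : Module.End F V) :=
          commute_spanAlg (fun a ha => by
            rw [Commute, SemiconjBy, ← map_mul, ← map_mul, mem_ker_conjAlg.1 g.2 a ha]) x.2
        exact LinearMap.congr_fun hc.eq v }
    map_one' := rfl
    map_mul' := fun _ _ => rfl }
  have hρinj : ∀ x : X, ρ x = 1 → x = 1 := fun x hx =>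
    Subtype.ext (Subtype.ext (LinearEquiv.ext fun v => LinearMap.congr_fun hx v))
  let ψ : ∀ a : L, a ∈ A → R := fun a ha => ⟨toEndHom L a, mem_spanAlg ha⟩
  have hψmul : ∀ a ha b hb, ψ (a * b) (mul_mem ha hb) = ψ a ha * ψ b hb :=
    fun a ha b hb => Subtype.ext (map_mul (toEndHom L) a b)
  have hψone : ∀ a ha, ψ a ha = 1 → a = 1 := fun a ha e =>
    toEndHom_injective L ((congrArg Subtype.val e).trans (map_one (toEndHom L)).symm)
  set A' := A.subgroupOf X with hA'def
  set E' := E.subgroupOf X with hE'def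
  have hscal : ∀ a ∈ A', ∃ c : R, ρ a = c • (1 : Module.End R V) := fun a ha =>
    ⟨ψ _ (mem_subgroupOf.1 ha), LinearMap.ext fun v => rfl⟩
  haveI : Module.Free R V := Module.Free.of_divisionRing R V
  have hdet : ∀ a : X, ∀ g x : X, a ∈ A' → x * g * x⁻¹ = a * g → a ^ w = 1 := by
    intro a g x ha he
    obtain ⟨c, hc⟩ := hscal a ha
    have h1 := congrArg (fun y => LinearMap.det (ρ y)) he
    simp only [map_mul, hc, LinearMap.det_smul, map_one, mul_one] at h1
    have h2 : LinearMap.det (ρ x) * LinearMap.det (ρ x⁻¹) = 1 := by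
      rw [← map_mul, ← map_mul, mul_inv_cancel, map_one, map_one]
    rw [mul_right_comm, h2, one_mul] at h1
    have h3 : LinearMap.det (ρ g) ≠ 0 := fun h0 => by
      have h4 : LinearMap.det (ρ g) * LinearMap.det (ρ g⁻¹) = 1 := by
        rw [← map_mul, ← map_mul, mul_inv_cancel, map_one, map_one]
      rw [h0, zero_mul] at h4
      exact zero_ne_one h4
    refine hρinj _ ?_
    rw [map_pow, hc, smul_pow, one_pow, (mul_eq_right₀ h3).1 h1.symm, one_smul]
  have hpowmem : ∀ e ∈ E, e ^ w ∈ A := fun e he => by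
    refine hC ⟨hEX (pow_mem he _), mem_centralizer_iff.2 fun f hf => ?_⟩
    obtain ⟨c, hc, hcc⟩ : ∃ c, c ∈ A ∧ f * e * f⁻¹ = c * e :=
      ⟨f * e * f⁻¹ * e⁻¹, hEc f hf e he, by group⟩
    have hcw : c ^ w = 1 := congrArg Subtype.val (hdet ⟨c, hAX hc⟩ ⟨e, hEX he⟩ ⟨f, hEX hf⟩
      (mem_subgroupOf.2 hc) (Subtype.ext hcc))
    refine mul_inv_eq_iff_eq_mul.1 ?_
    rw [← conj_pow, hcc, (show Commute c e from hAc c hc e (hEX he)).mul_pow, hcw, one_mul]
  -- the layer
  haveI hAEn : (A.subgroupOf E).Normal := Subgroup.Normal.subgroupOf hAn E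
  letI : CommGroup (E ⧸ A.subgroupOf E) :=
    { (inferInstance : Group (E ⧸ A.subgroupOf E)) with
      mul_comm := fun a b => by
        induction a using QuotientGroup.induction_on with
        | _ a =>
        induction b using QuotientGroup.induction_on with
        | _ b =>
        rw [← QuotientGroup.mk_mul, ← QuotientGroup.mk_mul, QuotientGroup.eq, mem_subgroupOf]
        have := hEc _ (inv_mem b.2) _ (inv_mem a.2)
        have e : (((a * b)⁻¹ * (b * a) : E) : L) =
            (b : L)⁻¹ * (a : L)⁻¹ * (b : L)⁻¹⁻¹ * (a : L)⁻¹⁻¹ := by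
          push_cast
          group
        rw [e]; exact this }
  let W := Additive (E ⧸ A.subgroupOf E)
  let mk : E → W := fun m => Additive.ofMul (QuotientGroup.mk m)
  have mk_surj : ∀ x : W, ∃ m, mk m = x := fun x => QuotientGroup.mk_surjective (Additive.toMul x)
  have mk_zero : ∀ m : E, mk m = 0 ↔ (m : L) ∈ A := fun m => by
    show QuotientGroup.mk m = (1 : E ⧸ A.subgroupOf E) ↔ _
    rw [QuotientGroup.eq_one_iff, mem_subgroupOf]
  let cq : L → (E ⧸ A.subgroupOf E →* E ⧸ A.subgroupOf E) := fun g =>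
    QuotientGroup.map _ _ (MulAut.conjNormal g : MulAut E).toMonoidHom (by
      intro m hm
      rw [mem_subgroupOf] at hm
      show ((MulAut.conjNormal g m : E) : L) ∈ A
      rw [MulAut.conjNormal_apply]
      exact hAn.conj_mem _ hm g)
  letI actW : DistribMulAction L W :=
    { smul := fun g x => Additive.ofMul (cq g (Additive.toMul x))
      one_smul := fun x => by
        obtain ⟨m, rfl⟩ := mk_surj x
        show Additive.ofMul (QuotientGroup.mk (MulAut.conjNormal (1 : L) m : E)) = _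
        rw [map_one]; rfl
      mul_smul := fun g k x => by
        obtain ⟨m, rfl⟩ := mk_surj x
        show Additive.ofMul (QuotientGroup.mk (MulAut.conjNormal (g * k) m : E)) = _
        rw [map_mul]; rfl
      smul_zero := fun g => congrArg Additive.ofMul (map_one (cq g))
      smul_add := fun g x y => congrArg Additive.ofMul (map_mul (cq g) _ _) }
  have hact : ∀ g (m : E), g • mk m = mk (MulAut.conjNormal g m) := fun _ _ => rfl
  let bK : E → E → R := fun a b =>
    ψ ((a : L) * b * (a : L)⁻¹ * (b : L)⁻¹) (hEc _ a.2 _ b.2)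
  have hψcongr : ∀ a ha b hb, a = b → ψ a ha = ψ b hb := fun a ha b hb e => by subst e; rfl
  have hone : ψ 1 A.one_mem = 1 := Subtype.ext (map_one (toEndHom L))
  have hleft : ∀ a b c : E, bK (a * b) c = bK a c * bK b c := fun a b c => by
    show _ = ψ _ (hEc _ a.2 _ c.2) * ψ _ (hEc _ b.2 _ c.2)
    rw [← hψmul _ (hEc _ a.2 _ c.2) _ (hEc _ b.2 _ c.2)]
    refine hψcongr _ (hEc _ (a * b).2 _ c.2) _
      (mul_mem (hEc _ a.2 _ c.2) (hEc _ b.2 _ c.2)) ?_
    have e := hAc _ (hEc _ b.2 _ c.2) (a : L) (hEX a.2)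
    calc ((a * b : E) : L) * c * ((a * b : E) : L)⁻¹ * (c : L)⁻¹
        = (a : L) * ((b : L) * c * (b : L)⁻¹ * (c : L)⁻¹) * ((c : L) * (a : L)⁻¹ * (c : L)⁻¹) := by
          push_cast; group
      _ = ((b : L) * c * (b : L)⁻¹ * (c : L)⁻¹) * ((a : L) * c * (a : L)⁻¹ * (c : L)⁻¹) := by
          rw [← e]; group
      _ = _ := hA _ (hEc _ b.2 _ c.2) _ (hEc _ a.2 _ c.2)
  have hswap : ∀ a b : E, bK a b * bK b a = 1 := fun a b => by
    show ψ _ (hEc _ a.2 _ b.2) * ψ _ (hEc _ b.2 _ a.2) = 1
    rw [← hψmul _ (hEc _ a.2 _ b.2) _ (hEc _ b.2 _ a.2), ← hone]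
    exact hψcongr _ (mul_mem (hEc _ a.2 _ b.2) (hEc _ b.2 _ a.2)) _ A.one_mem (by group)
  have hnull : ∀ u b : E, (u : L) ∈ A → bK u b = 1 := fun u b hu => by
    rw [← hone]
    refine hψcongr _ (hEc _ u.2 _ b.2) _ A.one_mem ?_
    rw [hAc _ hu _ (hEX b.2), mul_inv_cancel_right, mul_inv_cancel]
  have hnull' : ∀ u b : E, (u : L) ∈ A → bK b u = 1 := fun u b hu => by
    have := hswap b u
    rwa [hnull u b hu, mul_one] at this
  have hright : ∀ a b c : E, bK a (b * c) = bK a b * bK a c := fun a b c => by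
    have h1 := hswap a (b * c)
    rw [hleft] at h1
    calc bK a (b * c) = bK a (b * c) * ((bK a b * bK b a) * (bK a c * bK c a)) := by
          rw [hswap, hswap, mul_one, mul_one]
      _ = bK a (b * c) * (bK b a * bK c a) * (bK a b * bK a c) := by ring
      _ = bK a b * bK a c := by rw [h1, one_mul]
  let β : W → W → R := fun x y => Quotient.liftOn₂ (Additive.toMul x) (Additive.toMul y) bK (by
    intro a b a' b' ha hb
    replace ha := QuotientGroup.leftRel_apply.1 ha
    replace hb := QuotientGroup.leftRel_apply.1 hb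
    rw [mem_subgroupOf] at ha hb
    obtain ⟨u, rfl⟩ : ∃ u, a' = a * u := ⟨a⁻¹ * a', by group⟩
    obtain ⟨v, rfl⟩ : ∃ v, b' = b * v := ⟨b⁻¹ * b', by group⟩
    rw [inv_mul_cancel_left] at ha hb
    rw [hleft, hright, hright, hnull u _ ha, hnull u _ ha, hnull' v _ hb]
    simp only [mul_one])
  have hβmk : ∀ a b, β (mk a) (mk b) = bK a b := fun _ _ => rfl
  have hbK : ∀ a b : E, bK a b = 1 ↔ (a : L) * b = b * a := fun a b => by
    constructor
    · intro h
      exact mul_inv_eq_iff_eq_mul.1 (mul_inv_eq_one.1 (hψone _ (hEc _ a.2 _ b.2) h))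
    · intro h
      rw [← hone]
      exact hψcongr _ (hEc _ a.2 _ b.2) _ A.one_mem
        (by rw [h, mul_inv_cancel_right, mul_inv_cancel])
  have hpair : IsPairing L β :=
    { add_left := fun x y z => by
        obtain ⟨a, rfl⟩ := mk_surj x
        obtain ⟨b, rfl⟩ := mk_surj y
        obtain ⟨c, rfl⟩ := mk_surj z
        show β (mk (a * b)) (mk c) = _
        rw [hβmk, hβmk, hβmk, hleft]
      add_right := fun x y z => by
        obtain ⟨a, rfl⟩ := mk_surj x
        obtain ⟨b, rfl⟩ := mk_surj y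
        obtain ⟨c, rfl⟩ := mk_surj z
        show β (mk a) (mk (b * c)) = _
        rw [hβmk, hβmk, hβmk, hright]
      self := fun x => by
        obtain ⟨a, rfl⟩ := mk_surj x
        exact (hbK a a).2 rfl
      nondeg := fun x hx => by
        obtain ⟨a, rfl⟩ := mk_surj x
        refine (mk_zero a).2 (hC ⟨hEX a.2, mem_centralizer_iff.2 fun m hm => ?_⟩)
        exact ((hbK a ⟨m, hm⟩).1 (hx (mk ⟨m, hm⟩))).symm
      invariant := fun g x y h => by
        obtain ⟨a, rfl⟩ := mk_surj x
        obtain ⟨b, rfl⟩ := mk_surj y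
        rw [hact, hact, hβmk, hbK, MulAut.conjNormal_apply, MulAut.conjNormal_apply]
        rw [hβmk, hbK] at h
        calc g * a * g⁻¹ * (g * b * g⁻¹) = g * ((a : L) * b) * g⁻¹ := by group
          _ = _ := by rw [h]; group
      no_isotropic := fun Y hY hiso => by
        let N : Subgroup L :=
          { carrier := {g | ∃ h : g ∈ E, mk ⟨g, h⟩ ∈ Y}
            one_mem' := ⟨E.one_mem, Y.zero_mem⟩
            mul_mem' := fun {a b} ⟨ha, ha'⟩ ⟨hb, hb'⟩ => ⟨E.mul_mem ha hb, Y.add_mem ha' hb'⟩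
            inv_mem' := fun {a} ⟨ha, ha'⟩ => ⟨E.inv_mem ha, Y.neg_mem ha'⟩ }
        have hNn : N.Normal := ⟨fun m ⟨hm, hm'⟩ g => ⟨hEn.conj_mem m hm g, by
          have e : (MulAut.conjNormal g ⟨m, hm⟩ : E) = ⟨g * m * g⁻¹, hEn.conj_mem m hm g⟩ :=
            Subtype.ext (MulAut.conjNormal_apply g ⟨m, hm⟩)
          exact e ▸ hY g _ hm'⟩⟩
        have hNA : N ≤ A := hAmax (y := N) ⟨hNn, fun a ⟨ha, ha'⟩ b ⟨hb, hb'⟩ =>
          (hbK ⟨a, ha⟩ ⟨b, hb⟩).1 (hiso _ ha' _ hb')⟩
          (fun a ha => ⟨hAE ha, by rw [(mk_zero ⟨a, hAE ha⟩).2 ha]; exact Y.zero_mem⟩)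
        refine (AddSubgroup.eq_bot_iff_forall _).2 fun x hx => ?_
        obtain ⟨a, rfl⟩ := mk_surj x
        exact (mk_zero a).2 (hNA ⟨a.2, hx⟩) }
  have hA'c : ∀ a ∈ A', ∀ x : X, a * x = x * a := fun a ha x =>
    Subtype.ext (hAc _ (mem_subgroupOf.1 ha) _ x.2)
  have hA'E : A' ≤ E' := fun a ha => mem_subgroupOf.2 (hAE (mem_subgroupOf.1 ha))
  have hE'c : ∀ e ∈ E', ∀ f ∈ E', e * f * e⁻¹ * f⁻¹ ∈ A' := fun e he f hf =>
    mem_subgroupOf.2 (by simpa using hEc _ (mem_subgroupOf.1 he) _ (mem_subgroupOf.1 hf))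
  have hC' : ∀ x : X, (∀ e ∈ E', x * e = e * x) → x ∈ A' := fun x hx =>
    mem_subgroupOf.2 (hC ⟨x.2, mem_centralizer_iff.2 fun e he =>
      (congrArg Subtype.val (hx ⟨e, hEX he⟩ (mem_subgroupOf.2 he))).symm⟩)
  set D := fixModulo A' hA'c (E' : Set X) with hDdef
  have hsq : A'.relIndex D ≤ w ^ 2 := relIndex_fix_le_sq A' E' hA'c hA'E hE'c hC' ρ hscal hρinj
  have hn : A'.relIndex E' = A.relIndex E := relIndex_subgroupOf hEX
  have hA'D : A' ≤ D := fun a ha e _ => by
    rw [hA'c a ha e, mul_inv_cancel_right, mul_inv_cancel]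
    exact one_mem A'
  have hE'D : E' ≤ D := fun e he f hf => hE'c e he f hf
  have hnle : A.relIndex E ≤ w ^ 2 := by
    rw [← hn]
    refine le_trans ?_ hsq
    rw [← relIndex_mul_relIndex A' E' D hA'E hE'D]
    exact Nat.le_mul_of_pos_right _
      (Nat.pos_of_ne_zero (by rw [relIndex]; exact index_ne_zero_of_finite))
  have hcardW : Nat.card W = A.relIndex E := rfl
  have hcentral : h = 1 → X = ⊤ := fun h1 => index_eq_one.1 (by
    have := Nat.pos_of_ne_zero (index_ne_zero_of_finite (H := X))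
    omega)
  have hcrude : A'.index ≤ indexBound w :=
    index_le_indexBound A' E' hA'c hA'E hE'c hC' ρ hscal hρinj
  refine ⟨{
    A := A, E := E, h := h, w := w, n := A.relIndex E, i := D.index
    A_normal := hAn, A_comm := hA, dim := hhw, one_le_h := hhpos, one_le_w := hwpos
    card_le := hcardA, E_normal := hEn, A_le := hAE, n_eq := rfl, comm := hEc
    n_le := hnle
    card_dvd := ?_, classes := ?_, index_crude := ?_, index_le := ?_, n_pos := ?_, square := ?_
    primes := ?_, i_layer := ?_, i_image := ?_, central := ?_, scalar := ?_, scalar_mem := ?_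
    cent := ?_, pow_mem := hpowmem, kernel := ?_ }⟩
  · let φ : A →* R := { toFun := fun a => ψ a a.2, map_one' := hone,
                        map_mul' := fun a b => hψmul a a.2 b b.2 }
    have := Subgroup.card_dvd_of_injective φ.toHomUnits fun a b e => Subtype.ext
      (toEndHom_injective L (congrArg (fun u : Rˣ => ((u : R) : Module.End F V)) e))
    rwa [Nat.card_units, Module.natCard_eq_pow_finrank (K := F) (V := R)] at this
  · have h1 : Nat.card A ≤ classNum X :=
      Nat.card_le_card_of_injective (fun a : A => ConjClasses.mk (⟨a, hAX a.2⟩ : X))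
        fun a b e => by
          obtain ⟨x, hx⟩ := isConj_iff.1 (ConjClasses.mk_eq_mk_iff_isConj.1 e)
          have h2 : (x : L) * (a : L) * (x : L)⁻¹ = b := congrArg Subtype.val hx
          rw [← hAc _ a.2 _ x.2, mul_inv_cancel_right] at h2
          exact Subtype.ext h2
    exact h1.trans ((classNum_subgroup_le X).trans (Nat.mul_le_mul_right _ hXidx))
  · rw [← relIndex_mul_index hAX, mul_comm]
    exact Nat.mul_le_mul hXidx hcrude
  · rw [← relIndex_mul_index hAX, mul_comm]
    refine Nat.mul_le_mul hXidx ?_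
    rw [show A.relIndex X = A'.index from rfl, ← relIndex_mul_index hA'D]
    exact Nat.mul_le_mul_right _ hsq
  · exact Nat.pos_of_ne_zero (by rw [relIndex]; exact index_ne_zero_of_finite)
  · obtain ⟨e, he⟩ := hpair.card_square
    exact ⟨e, hcardW ▸ he⟩
  · intro ℓ hℓ hdvd
    haveI := Fact.mk hℓ
    obtain ⟨x, hx⟩ := exists_prime_orderOf_dvd_card' (G := E ⧸ A.subgroupOf E) ℓ hdvd
    obtain ⟨e, rfl⟩ := QuotientGroup.mk_surjective x
    constructor
    · rw [← hx]
      refine orderOf_dvd_of_pow_eq_one ?_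
      rw [← QuotientGroup.mk_pow, QuotientGroup.eq_one_iff, mem_subgroupOf, coe_pow]
      exact hpowmem _ e.2
    · rw [← hx]
      refine orderOf_dvd_of_pow_eq_one ?_
      rw [← QuotientGroup.mk_pow, QuotientGroup.eq_one_iff, mem_subgroupOf, coe_pow]
      refine hC ⟨hEX (pow_mem e.2 _), mem_centralizer_iff.2 fun f hf => ?_⟩
      have hc := hEc f hf _ e.2
      have hcp : (f * (e : L) * f⁻¹ * (e : L)⁻¹) ^ Nat.card A = 1 := by
        have := congrArg (Subtype.val : A → L) (pow_card_eq_one' (x := (⟨_, hc⟩ : A)))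
        rwa [coe_pow, coe_one] at this
      refine mul_inv_eq_iff_eq_mul.1 ?_
      rw [← conj_pow, show f * (e : L) * f⁻¹ = (f * (e : L) * f⁻¹ * (e : L)⁻¹) * e by group,
        (show Commute (f * (e : L) * f⁻¹ * (e : L)⁻¹) (e : L) from hAc _ hc _ (hEX e.2)).mul_pow,
        hcp, one_mul]
  · intro h100
    rw [← hn] at h100 ⊢
    exact index_fix_le_layerBound A' E' hA'c hA'E hE'c hC' h100
  · intro B hB
    refine le_trans ?_ (hB L W R β hsol hpair hcardW)
    have hker : (DistribMulAction.toAddMonoidEnd L W).ker.subgroupOf X ≤ D := by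
      intro x hx e he
      have h1 : (x : L) • mk ⟨(e : L), mem_subgroupOf.1 he⟩ = mk ⟨(e : L), mem_subgroupOf.1 he⟩ :=
        DFunLike.congr_fun (MonoidHom.mem_ker.1 (mem_subgroupOf.1 hx)) _
      rw [hact] at h1
      have h2 := mem_subgroupOf.1 (QuotientGroup.eq.1 (Additive.ofMul.injective h1).symm)
      simp only [coe_mul, Subgroup.coe_inv, MulAut.conjNormal_apply] at h2
      refine mem_subgroupOf.2 ?_
      simp only [coe_mul, Subgroup.coe_inv]
      have h3 := hAn.conj_mem _ h2 (e : L)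
      have e3 : (e : L) * ((e : L)⁻¹ * ((x : L) * e * (x : L)⁻¹)) * (e : L)⁻¹ =
          (x : L) * e * (x : L)⁻¹ * (e : L)⁻¹ := by group
      rwa [e3] at h3
    haveI : (DistribMulAction.toAddMonoidEnd L W).ker.Normal := inferInstance
    refine le_trans (Nat.le_of_dvd (Nat.pos_of_ne_zero index_ne_zero_of_finite)
      (index_dvd_of_le hker)) (Nat.le_of_dvd (Nat.pos_of_ne_zero index_ne_zero_of_finite) ?_)
    exact relIndex_dvd_index_of_normal _ _
  · intro h1 a ha x
    exact hAc a ha x (hcentral h1 ▸ mem_top x)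
  · intro h1 a ha
    have hbot : spanAlg A = ⊥ := Subalgebra.eq_bot_of_finrank_one h1
    have h2 : toEndHom L a ∈ (⊥ : Subalgebra F (Module.End F V)) := hbot ▸ mem_spanAlg ha
    obtain ⟨c, hc⟩ := Algebra.mem_bot.1 h2
    exact ⟨c, fun v => (LinearMap.congr_fun hc v).symm⟩
  · intro g hg
    exact hC ⟨mem_ker_conjAlg.2 fun a _ => hg a, mem_centralizer_iff.2 fun e _ => (hg e).symm⟩
  · intro h1 x hx
    exact hC ⟨hcentral h1 ▸ mem_top x, mem_centralizer_iff.2 fun e he => (hx e he).symm⟩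
  · intro h1 T hAT hT
    have hTX : T ≤ X := hcentral h1 ▸ le_top
    rw [← relIndex_subgroupOf hTX]
    refine le_trans (relIndex_le_of_le_right ?_ (by rw [relIndex]; exact index_ne_zero_of_finite)) hsq
    intro x hx e he
    exact mem_subgroupOf.2 (by simpa using hT _ (mem_subgroupOf.1 hx) _ (mem_subgroupOf.1 he))

end CfsgLib.Solvable.ClassLinearBound
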