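import Cfsg.Agent.Lib.Solvable.ClassBound.Monomial
import Cfsg.Agent.Lib.Solvable.ClassLinearBound.Numeric
import Cfsg.Agent.Lib.Solvable.ClassLinearBound.Counting

/-!
# The monomial case of the linear class number bound
-/

set_option autoImplicit false
set_option linter.unusedSectionVars false
set_option linter.style.haveILetI false

namespace CfsgLib.Solvable.ClassLinearBound

open Subgroup Module CfsgLib.Solvable.ClassBound

theorem descFactorial_mono {n : ℕ} : ∀ {k m : ℕ}, k ≤ m → m ≤ n →
    n.descFactorial k ≤ n.descFactorial m := by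
  intro k m hkm
  induction hkm with
  | refl => exact fun _ => le_rfl
  | step _ ih =>
    intro hm
    refine (ih (by omega)).trans ?_
    rw [Nat.descFactorial_succ]
    exact Nat.le_mul_of_pos_left _ (by omega)

section Perm

variable {I : Type*} [Finite I]

/-- A permutation group with a regular normal abelian subgroup is small. -/
theorem card_le_permBound (P : Subgroup (Equiv.Perm I)) (N : Subgroup P) [N.Normal]
    (hN : ∀ a ∈ N, ∀ b ∈ N, a * b = b * a) (i₀ : I)
    (htr : ∀ i : I, ∃ n ∈ N, (n : Equiv.Perm I) i₀ = i) :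
    Nat.card P ≤ permBound (Nat.card I) := by
  classical
  haveI : Nonempty I := ⟨i₀⟩
  choose ν hνN hν using htr
  have hfix : ∀ n ∈ N, (n : Equiv.Perm I) i₀ = i₀ → n = 1 := fun n hn h =>
    Subtype.ext (Equiv.ext fun i => by
      rw [← hν i, ← Equiv.Perm.mul_apply, ← coe_mul, hN n hn _ (hνN i), coe_mul,
        Equiv.Perm.mul_apply, h]
      rfl)
  have hν1 : ∀ n ∈ N, ν ((n : Equiv.Perm I) i₀) = n := fun n hn => by
    have h1 := hfix (n⁻¹ * ν ((n : Equiv.Perm I) i₀)) (mul_mem (inv_mem hn) (hνN _)) (by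
      rw [coe_mul, Equiv.Perm.mul_apply, hν, Subgroup.coe_inv, Equiv.Perm.inv_def, Equiv.symm_apply_apply])
    exact (inv_mul_eq_one.1 h1).symm
  have hcN : Nat.card N ≤ Nat.card I :=
    Nat.card_le_card_of_injective (fun n : N => ((n : P) : Equiv.Perm I) i₀) fun a b e =>
      Subtype.ext (by rw [← hν1 a a.2, ← hν1 b b.2]; exact congrArg ν e)
  obtain ⟨s₀, hs₀, hscard⟩ := exists_small_generating N
  set s := s₀.erase 1 with hsdef
  have hs : Subgroup.closure (s : Set N) = ⊤ := by
    refine eq_top_iff.2 (hs₀ ▸ (closure_le _).2 fun x hx => ?_)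
    by_cases hx1 : x = 1
    · rw [hx1]; exact one_mem _
    · exact subset_closure (Finset.mem_coe.2 (Finset.mem_erase.2 ⟨hx1, hx⟩))
  have hlog : s.card ≤ Nat.log 2 (Nat.card I) :=
    (Finset.card_le_card (Finset.erase_subset _ _)).trans
      (Nat.le_log_of_pow_le one_lt_two (hscard.trans hcN))
  let conjN : P → s → N := fun g x =>
    ⟨((ν ((g : Equiv.Perm I) i₀))⁻¹ * g) * ((x : N) : P) * ((ν ((g : Equiv.Perm I) i₀))⁻¹ * g)⁻¹,
      Normal.conj_mem ‹N.Normal› _ (x : N).2 _⟩
  have hinj : Function.Injective fun g : P => ((g : Equiv.Perm I) i₀, conjN g) := by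
    intro g g' e
    simp only [Prod.mk.injEq] at e
    obtain ⟨e1, e2⟩ := e
    set u := (ν ((g : Equiv.Perm I) i₀))⁻¹ * g with hu
    set u' := (ν ((g' : Equiv.Perm I) i₀))⁻¹ * g' with hu'
    have hu0 : ∀ g : P, (((ν ((g : Equiv.Perm I) i₀))⁻¹ * g : P) : Equiv.Perm I) i₀ = i₀ := fun g => by
      rw [coe_mul, Equiv.Perm.mul_apply, Subgroup.coe_inv, Equiv.Perm.inv_eq_iff_eq, hν]
    have hall : ∀ n : N, u'⁻¹ * u * n = n * (u'⁻¹ * u) := by
      intro n
      have hn : n ∈ Subgroup.closure (s : Set N) := hs ▸ mem_top n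
      induction hn using closure_induction with
      | mem x hx =>
        have h1 : u * x * u⁻¹ = u' * x * u'⁻¹ := congrArg Subtype.val (congrFun e2 ⟨x, hx⟩)
        calc u'⁻¹ * u * x = u'⁻¹ * (u * x * u⁻¹) * u := by group
          _ = x * (u'⁻¹ * u) := by rw [h1]; group
      | one => simp
      | mul x y _ _ hx hy => rw [coe_mul, ← mul_assoc, hx, mul_assoc, hy, mul_assoc]
      | inv x _ hx =>
        rw [Subgroup.coe_inv, eq_inv_mul_iff_mul_eq, ← mul_assoc, ← hx, mul_inv_cancel_right]
    have h0 : ((u'⁻¹ * u : P) : Equiv.Perm I) i₀ = i₀ := by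
      rw [coe_mul, Equiv.Perm.mul_apply, hu0 g, Subgroup.coe_inv, Equiv.Perm.inv_eq_iff_eq, hu0 g']
    have h1 : u'⁻¹ * u = 1 := Subtype.ext (Equiv.ext fun i => by
      rw [← hν i, ← Equiv.Perm.mul_apply, ← coe_mul, hall ⟨_, hνN i⟩, coe_mul, Equiv.Perm.mul_apply,
        h0]
      rfl)
    have h2 : u' = u := inv_mul_eq_one.1 h1
    rw [hu, hu', ← e1] at h2
    exact (mul_left_cancel h2).symm
  haveI : Fintype N := Fintype.ofFinite N
  have hne : ∀ (g : P) (x : s), conjN g x ≠ 1 := fun g x e => by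
    have e' := congrArg (Subtype.val : N → P) e
    simp only [conjN, coe_one, conj_eq_one_iff] at e'
    exact (Finset.mem_erase.1 x.2).1 (Subtype.ext e')
  let conjE : P → (s ↪ {x : N // x ≠ 1}) := fun g =>
    ⟨fun x => ⟨conjN g x, hne g x⟩, fun x y e => by
      have e' := congrArg (fun z : {x : N // x ≠ 1} => ((z : N) : P)) e
      simp only [conjN, mul_left_inj, mul_right_inj] at e'
      exact Subtype.ext (Subtype.ext e')⟩
  refine (Nat.card_le_card_of_injective (fun g : P => ((g : Equiv.Perm I) i₀, conjE g))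
    fun g g' e => hinj (Prod.ext (congrArg Prod.fst e :) (funext fun x =>
      congrArg Subtype.val (DFunLike.congr_fun (congrArg Prod.snd e :) x)))).trans ?_
  rw [Nat.card_prod, permBound]
  refine Nat.mul_le_mul le_rfl ?_
  rw [Nat.card_eq_fintype_card (α := s ↪ {x : N // x ≠ 1}), Fintype.card_embedding_eq,
    Fintype.card_coe, Fintype.card_subtype_compl, Fintype.card_subtype_eq,
    ← Nat.card_eq_fintype_card]
  refine le_trans (Nat.descFactorial_le _ (Nat.sub_le_sub_right hcN 1)) (descFactorial_mono hlog ?_)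
  have := Nat.log_lt_self 2 (Nat.card_pos (α := I)).ne'
  omega

end Perm

variable {F V : Type*} [Field F] [Finite F] [AddCommGroup V] [Module F V] [Finite V]
variable {L : Subgroup (V ≃ₗ[F] V)}

/-- The monomial case. -/
theorem monomial_product [hsol : Group.IsSolvable L] (hL : Irred L) {D : Submodule F V}
    (hD : IsBlock L D) (hD1 : finrank F D = 1) (he : 2 ≤ finrank F V)
    (hmin : ∀ B : Submodule F V, IsBlock L B → B = ⊤ ∨ finrank F B ≤ 1)
    (hq : 11 ≤ Nat.card F) :
    2401 * Nat.card F ^ 2 ≤ 14400 * (classNum L * vecOrbits L) := by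
  classical
  obtain ⟨v₀, hv₀⟩ := hL.1
  haveI : Module.Finite F V := Module.Finite.of_finite
  haveI : Finite (Submodule F V) :=
    Finite.of_injective (fun W : Submodule F V => (W : Set V)) SetLike.coe_injective
  haveI : Fintype (blocks L D) := Fintype.ofFinite _
  set t := Nat.card (blocks L D) with htdef
  have hline : ∀ i : blocks L D, finrank F (i : Submodule F V) = 1 := by
    rintro ⟨_, g, rfl⟩
    exact (finrank_img _ D).trans hD1
  have hspan : (⊤ : Submodule F V) ≤ ⨆ i : blocks L D, (i : Submodule F V) := by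
    rw [← hD.span]
    exact iSup_le fun g => le_iSup_of_le (⟨_, g, rfl⟩ : blocks L D) le_rfl
  have hte : t = finrank F V := by
    refine le_antisymm ?_ ?_
    · have := hD.card
      rwa [hD1, mul_one, ← Nat.card_coe_set_eq] at this
    · refine (finrank_le_sum _ hspan).trans (le_of_eq ?_)
      rw [Finset.sum_congr rfl (fun i _ => hline i), Finset.sum_const, smul_eq_mul, mul_one,
        Finset.card_univ, ← Nat.card_eq_fintype_card]
  set π := blockPerm L D with hπ
  have hK : ∀ a ∈ π.ker, ∀ b ∈ π.ker, a * b = b * a := by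
    intro a ha b hb
    have hline' : ∀ i : blocks L D, ∀ v ∈ (i : Submodule F V),
        (a : V ≃ₗ[F] V) ((b : V ≃ₗ[F] V) v) = (b : V ≃ₗ[F] V) ((a : V ≃ₗ[F] V) v) := by
      intro i v hv
      have hfix : ∀ g ∈ π.ker, (g : V ≃ₗ[F] V) v ∈ (i : Submodule F V) := fun g hg => by
        have h2 : img (g : V ≃ₗ[F] V) i = (i : Submodule F V) := by
          have h1 := blockPerm_apply D g i
          rw [← hπ, MonoidHom.mem_ker.1 hg] at h1
          exact h1.symm
        have := apply_mem_img (g : V ≃ₗ[F] V) hv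
        rwa [h2] at this
      obtain ⟨w, hw, hgen⟩ := finrank_eq_one_iff'.1 (hline i)
      obtain ⟨cv, hcv⟩ := hgen ⟨v, hv⟩
      obtain ⟨ca, hca⟩ := hgen ⟨_, hfix a ha⟩
      obtain ⟨cb, hcb⟩ := hgen ⟨_, hfix b hb⟩
      have ev : v = cv • (w : V) := (congrArg Subtype.val hcv).symm
      have ea : (a : V ≃ₗ[F] V) v = ca • (w : V) := (congrArg Subtype.val hca).symm
      have eb : (b : V ≃ₗ[F] V) v = cb • (w : V) := (congrArg Subtype.val hcb).symm
      by_cases h0 : v = 0
      · simp [h0]
      have hcv0 : cv ≠ 0 := fun h => h0 (by rw [ev, h, zero_smul])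
      have ew : (w : V) = cv⁻¹ • v := by rw [ev, smul_smul, inv_mul_cancel₀ hcv0, one_smul]
      have ea' : (a : V ≃ₗ[F] V) v = (ca * cv⁻¹) • v := by rw [ea, ew, smul_smul]
      have eb' : (b : V ≃ₗ[F] V) v = (cb * cv⁻¹) • v := by rw [eb, ew, smul_smul]
      rw [eb', map_smul, ea', map_smul, eb', smul_comm]
    refine Subtype.ext (LinearEquiv.ext fun v => ?_)
    show (a : V ≃ₗ[F] V) ((b : V ≃ₗ[F] V) v) = (b : V ≃ₗ[F] V) ((a : V ≃ₗ[F] V) v)
    let W : Submodule F V := LinearMap.ker
      (((a : V ≃ₗ[F] V) : V →ₗ[F] V) ∘ₗ ((b : V ≃ₗ[F] V) : V →ₗ[F] V) -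
        ((b : V ≃ₗ[F] V) : V →ₗ[F] V) ∘ₗ ((a : V ≃ₗ[F] V) : V →ₗ[F] V))
    have hW : (⊤ : Submodule F V) ≤ W := hspan.trans (iSup_le fun i x hx => by
      simp only [W, LinearMap.mem_ker, LinearMap.sub_apply, LinearMap.comp_apply]
      exact sub_eq_zero.2 (hline' i x hx))
    exact sub_eq_zero.1 (hW (Submodule.mem_top (x := v)))
  set P := π.range with hP
  haveI hPsol : Group.IsSolvable P := Group.isSolvable_of_surjective π.rangeRestrict_surjective
  let i₀ : blocks L D := ⟨_, 1, rfl⟩
  have htrans : ∀ i : blocks L D, ∃ g : L, π g i₀ = i := by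
    rintro ⟨_, g, rfl⟩
    exact ⟨g, Subtype.ext (by
      show img (g : V ≃ₗ[F] V) (img ((1 : L) : V ≃ₗ[F] V) D) = img (g : V ≃ₗ[F] V) D
      rw [coe_one, img_one])⟩
  have ht2 : 2 ≤ t := hte ▸ he
  have hPnt : (⊤ : Subgroup P) ≠ ⊥ := fun h => by
    haveI : Nontrivial (blocks L D) := Finite.one_lt_card_iff_nontrivial.1 ht2
    obtain ⟨i, hi⟩ := exists_ne i₀
    obtain ⟨g, hg⟩ := htrans i
    have : (π.rangeRestrict g : P) = 1 := mem_bot.1 (h ▸ mem_top _)
    exact hi (by rw [← hg, show π g = 1 from congrArg Subtype.val this]; rfl)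
  obtain ⟨k₀, hk₀⟩ := (isSolvable_def (G := P)).1 hPsol
  have hex : ∃ k, derivedSeries P k = ⊥ := ⟨k₀, hk₀⟩
  obtain ⟨k, hk⟩ : ∃ k, Nat.find hex = k + 1 := by
    rcases hk : Nat.find hex with _ | k
    · have := Nat.find_spec hex
      rw [hk] at this
      exact absurd this hPnt
    · exact ⟨k, rfl⟩
  set N := derivedSeries P k with hNdef
  have hNne : N ≠ ⊥ := Nat.find_min hex (by omega)
  haveI : N.Normal := derivedSeries_normal P k
  have hNab : ∀ a ∈ N, ∀ b ∈ N, a * b = b * a := fun a ha b hb => by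
    have h1 : ⁅N, N⁆ = ⊥ := by
      have := Nat.find_spec hex
      rw [hk] at this
      exact this
    have h2 := Subgroup.commutator_le.1 h1.le a ha b hb
    exact commutatorElement_eq_one_iff_commute.1 (mem_bot.1 h2)
  let O : blocks L D → Set (blocks L D) := fun i =>
    {j | ∃ n ∈ N, (n : Equiv.Perm (blocks L D)) i = j}
  have hOimg : ∀ (g : L) (i : blocks L D), (π g) '' (O i) = O (π g i) := by
    intro g i
    ext j
    constructor
    · rintro ⟨_, ⟨n, hn, rfl⟩, rfl⟩
      refine ⟨π.rangeRestrict g * n * (π.rangeRestrict g)⁻¹,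
        Normal.conj_mem ‹N.Normal› n hn _, ?_⟩
      show ((π g * (n : Equiv.Perm (blocks L D)) * (π g)⁻¹ : Equiv.Perm (blocks L D))) (π g i) = _
      simp
    · rintro ⟨n, hn, rfl⟩
      refine ⟨_, ⟨(π.rangeRestrict g)⁻¹ * n * π.rangeRestrict g, by
        simpa using Normal.conj_mem ‹N.Normal› n hn (π.rangeRestrict g)⁻¹, rfl⟩, ?_⟩
      show π g ((((π g)⁻¹ * (n : Equiv.Perm (blocks L D)) * π g : Equiv.Perm (blocks L D))) i) = _
      simp
  have hfull : O i₀ = Set.univ := by
    let sp : Set (blocks L D) → Submodule F V := fun S => ⨆ j ∈ S, (j : Submodule F V)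
    have hspimg : ∀ (g : L) (S : Set (blocks L D)), img (g : V ≃ₗ[F] V) (sp S) = sp (π g '' S) := by
      intro g S
      simp only [sp, img, Submodule.map_iSup, iSup_image]
      rfl
    set B := sp (O i₀) with hB
    have hi₀ : i₀ ∈ O i₀ := ⟨1, one_mem N, rfl⟩
    have hle : ∀ j ∈ O i₀, (j : Submodule F V) ≤ B := fun j hj => le_iSup₂_of_le j hj le_rfl
    have hBne : B ≠ ⊥ := fun e => by
      have := hline i₀
      have hb : (i₀ : Submodule F V) = ⊥ := le_bot_iff.1 (e ▸ hle i₀ hi₀)
      rw [hb, finrank_bot] at this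
      exact zero_ne_one this
    have hrank : ∀ S : Set (blocks L D), finrank F (sp S) ≤ S.ncard := by
      intro S
      induction S, Set.toFinite S using Set.Finite.induction_on with
      | empty => simp [sp]
      | @insert a s ha hs ih =>
        have e1 : sp (insert a s) = (a : Submodule F V) ⊔ sp s := iSup_insert
        rw [e1, Set.ncard_insert_of_notMem ha hs]
        refine le_trans (Submodule.finrank_add_le_finrank_add_finrank _ _) ?_
        rw [hline a]
        omega
    have hcount : (blocks L B).ncard * (O i₀).ncard ≤ t := by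
      let orbs : Set (Set (blocks L D)) := Set.range fun g : L => O (π g i₀)
      have h1 : (blocks L B).ncard ≤ orbs.ncard := by
        refine (Set.ncard_le_ncard (t := sp '' orbs) ?_).trans (Set.ncard_image_le (Set.toFinite _))
        rintro _ ⟨g, rfl⟩
        exact ⟨_, ⟨g, rfl⟩, by dsimp only; rw [← hOimg]; exact (hspimg g _).symm⟩
      refine (Nat.mul_le_mul_right _ h1).trans ?_
      have hdisj : ∀ a b j, j ∈ O a → j ∈ O b → O a = O b := by
        rintro a b j ⟨n, hn, rfl⟩ ⟨m, hm, hmj⟩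
        ext x
        constructor
        · rintro ⟨l, hl, rfl⟩
          refine ⟨l * n⁻¹ * m, mul_mem (mul_mem hl (inv_mem hn)) hm, ?_⟩
          rw [coe_mul, coe_mul, Equiv.Perm.mul_apply, Equiv.Perm.mul_apply, hmj, Subgroup.coe_inv,
            Equiv.Perm.inv_def, Equiv.symm_apply_apply]
        · rintro ⟨l, hl, rfl⟩
          refine ⟨l * m⁻¹ * n, mul_mem (mul_mem hl (inv_mem hm)) hn, ?_⟩
          rw [coe_mul, coe_mul, Equiv.Perm.mul_apply, Equiv.Perm.mul_apply, ← hmj, Subgroup.coe_inv,
            Equiv.Perm.inv_def, Equiv.symm_apply_apply]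
      haveI : Fintype orbs := Fintype.ofFinite _
      have h2 : Nat.card ((o : orbs) × (o : Set (blocks L D))) ≤ t :=
        Nat.card_le_card_of_injective (fun x => (x.2 : blocks L D)) (by
          rintro ⟨⟨_, g, rfl⟩, x, hx⟩ ⟨⟨_, g', rfl⟩, y, hy⟩ (e : x = y)
          subst e
          exact Sigma.subtype_ext (Subtype.ext (hdisj _ _ x hx hy)) rfl)
      refine le_trans (le_of_eq ?_) h2
      rw [Nat.card_sigma, Finset.sum_congr rfl (fun (o : orbs) _ => ?_), Finset.sum_const,
        smul_eq_mul, Finset.card_univ, ← Nat.card_eq_fintype_card, Nat.card_coe_set_eq]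
      obtain ⟨g, hg⟩ := o.2
      rw [Nat.card_coe_set_eq, ← hg]
      dsimp only
      rw [← hOimg, Set.ncard_image_of_injective _ (π g).injective]
    have hblock : IsBlock L B :=
      ⟨hBne, hL.span hBne, (Nat.mul_le_mul_left _ (hrank _)).trans (hcount.trans hte.le)⟩
    rcases hmin B hblock with hB1 | hB1
    · refine Set.eq_of_subset_of_ncard_le (Set.subset_univ _) ?_ (Set.toFinite _)
      have := hrank (O i₀)
      rw [← hB, hB1, finrank_top, ← hte] at this
      rwa [Set.ncard_univ, ← htdef]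
    · exfalso
      refine hNne (eq_bot_iff.2 fun n hn => mem_bot.2 (Subtype.ext (Equiv.ext fun i => ?_)))
      obtain ⟨g, hg⟩ := htrans i
      have hmem : (n : Equiv.Perm (blocks L D)) i ∈ O (π g i₀) := ⟨n, hn, by rw [hg]⟩
      rw [← hOimg] at hmem
      obtain ⟨j, hj, hji⟩ := hmem
      have hjB : j = i₀ := Subtype.ext ((Submodule.eq_of_le_of_finrank_le (hle j hj)
        (hB1.trans (hline j).ge)).trans (Submodule.eq_of_le_of_finrank_le (hle i₀ hi₀)
        (hB1.trans (hline i₀).ge)).symm)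
      rw [← hji, hjB, hg]
      rfl
  have hPcard : Nat.card P ≤ permBound t :=
    card_le_permBound P N hNab i₀ fun i => by
      have : i ∈ O i₀ := hfull ▸ Set.mem_univ i
      exact this
  have hidx : π.ker.index = Nat.card P := Subgroup.index_ker π
  have h1 : Nat.card π.ker ≤ Nat.card P * classNum L := hidx ▸ card_le_index_mul π.ker hK
  have h2 : Nat.card F ^ t - 1 ≤ vecOrbits L * Nat.card L := by
    refine le_trans (le_of_eq ?_) (ncard_le_orbitsOn_mul_card (L := L) (Set.Subset.refl _))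
    rw [Set.ncard_compl, Set.ncard_singleton, Module.natCard_eq_pow_finrank (K := F) (V := V), hte]
  have h3 : Nat.card F ^ t - 1 ≤ permBound t * permBound t * (classNum L * vecOrbits L) := by
    refine h2.trans ?_
    rw [← π.ker.card_mul_index, hidx]
    calc vecOrbits L * (Nat.card π.ker * Nat.card P)
        ≤ vecOrbits L * (Nat.card P * classNum L * Nat.card P) :=
          Nat.mul_le_mul_left _ (Nat.mul_le_mul_right _ h1)
      _ = Nat.card P * Nat.card P * (classNum L * vecOrbits L) := by ring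
      _ ≤ _ := Nat.mul_le_mul_right _ (Nat.mul_le_mul hPcard hPcard)
  have hpos : 0 < permBound t * permBound t := by
    have : 0 < permBound t := lt_of_lt_of_le Nat.card_pos hPcard
    exact Nat.mul_pos this this
  refine Nat.le_of_mul_le_mul_left ?_ hpos
  calc permBound t * permBound t * (2401 * Nat.card F ^ 2)
      = 2401 * (permBound t * permBound t) * Nat.card F ^ 2 := by ring
    _ ≤ 14400 * (Nat.card F ^ t - 1) := monomial_numeric ht2 hq
    _ ≤ 14400 * (permBound t * permBound t * (classNum L * vecOrbits L)) :=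
      Nat.mul_le_mul_left _ h3
    _ = _ := by ring

end CfsgLib.Solvable.ClassLinearBound
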