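import Cfsg.Agent.Lib.Solvable.ClassLinearBound.Plane
import Cfsg.Agent.Lib.Solvable.ClassLinearBound.Monomial

/-!
# Classes and orbits of solvable irreducible linear groups

Their sum is at least `49 p / 60` in dimension at least two.
-/

set_option autoImplicit false
set_option linter.unusedSectionVars false
set_option linter.style.haveILetI false

universe u v

namespace CfsgLib.Solvable.ClassLinearBound

open Subgroup Module CfsgLib.Solvable.ClassBound

variable {F : Type v} {V : Type u} [Field F] [Finite F] [AddCommGroup V] [Module F V] [Finite V]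

/-- The non-zero vectors fill at most as many orbits times the order of the group. -/
theorem pow_sub_one_le (L : Subgroup (V ≃ₗ[F] V)) :
    Nat.card F ^ finrank F V - 1 ≤ vecOrbits L * Nat.card L := by
  haveI : Module.Finite F V := Module.Finite.of_finite
  refine le_trans (le_of_eq ?_)
    (ncard_le_orbitsOn_mul_card (L := L) (Set.Subset.refl ({0}ᶜ : Set V)))
  rw [Set.ncard_compl, Set.ncard_singleton, Module.natCard_eq_pow_finrank (K := F) (V := V)]

/-- The trivial bound on the order of a group with one class. -/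
theorem two_le_classNum {G : Type*} [Group G] [Finite G] (h : 2 ≤ Nat.card G) : 2 ≤ classNum G := by
  by_contra hlt
  haveI : Nontrivial G := Finite.one_lt_card_iff_nontrivial.1 h
  haveI : Subsingleton (ConjClasses G) :=
    Finite.card_le_one_iff_subsingleton.1 (by rw [classNum] at hlt; omega)
  obtain ⟨x, hx⟩ := exists_ne (1 : G)
  exact hx (isConj_one_right.1 (ConjClasses.mk_eq_mk_iff_isConj.1
    (Subsingleton.elim (ConjClasses.mk (1 : G)) (ConjClasses.mk x))))

/-- A primitive group: the bound, spread over `m` blocks. -/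
theorem primitive_cases {L : Subgroup (V ≃ₗ[F] V)} (ly : Layer L) (hchar : (2 : F) ≠ 0) {p : ℕ}
    (hF : Nat.card F = p) (hpp : p.Prime) (hp : 11 ≤ p) (he : 2 ≤ finrank F V) {m k o : ℕ}
    (hm : 1 ≤ m) (hk : classNum L ≤ m * k) (ho : m * vecOrbits L ≤ o) :
    49 * p ≤ 60 * (k + o) := by
  haveI := ly.A_normal
  have hprod : classNum L * vecOrbits L ≤ k * o := by
    calc _ ≤ m * k * vecOrbits L := Nat.mul_le_mul_right _ hk
      _ = k * (m * vecOrbits L) := by ring
      _ ≤ _ := Nat.mul_le_mul_left _ ho
  have horb := pow_sub_one_le L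
  rw [hF, ← ly.dim] at horb
  have hpos : 0 < p ^ (ly.h * ly.w) - 1 := by
    have : 1 < p ^ (ly.h * ly.w) := Nat.one_lt_pow (by rw [ly.dim]; omega) hpp.one_lt
    omega
  have hcard : Nat.card L = Nat.card ly.A * ly.A.index := ly.A.card_mul_index.symm
  by_cases hex : Exceptional ly.h ly.w p
  swap
  · refine sum_of_product (le_trans ?_ (Nat.mul_le_mul_left _ hprod))
    have hX : p ^ (ly.h * ly.w) - 1 ≤
        ly.h * ly.h * scalarBound ly.w * (classNum L * vecOrbits L) := by
      refine horb.trans ?_
      rw [hcard]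
      refine (Nat.mul_le_mul_left _ (Nat.mul_le_mul ly.classes ly.index_le_scalarBound)).trans
        (le_of_eq ?_)
      ring
    have hI : 0 < ly.h * ly.h * scalarBound ly.w :=
      pos_of_mul_pos_left (lt_of_lt_of_le hpos hX) (Nat.zero_le _)
    have h1 := product_numeric ly.one_le_h ly.one_le_w (by rw [ly.dim]; exact he) hp hpp hex
    refine Nat.le_of_mul_le_mul_left ?_ hI
    calc _ = 2401 * (ly.h * ly.h * scalarBound ly.w) * p ^ 2 := by ring
      _ ≤ 14400 * (p ^ (ly.h * ly.w) - 1) := h1
      _ ≤ 14400 * (ly.h * ly.h * scalarBound ly.w * (classNum L * vecOrbits L)) :=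
          Nat.mul_le_mul_left _ hX
      _ = _ := by ring
  obtain ⟨h1, hw⟩ := hex
  rw [h1, one_mul] at horb hpos
  have hz : Nat.card ly.A ∣ p - 1 := by
    have := ly.card_dvd
    rwa [h1, hF, pow_one] at this
  rcases hw with h2 | hw
  · rw [h2] at horb
    rcases ly.plane_cases h1 h2 hchar with hsmall | ⟨z, hzd, hzk, hzL⟩
    · refine sum_of_product (le_trans ?_ (Nat.mul_le_mul_left _ hprod))
      have h3 : p ^ 2 - 1 ≤ 4 * (classNum L * vecOrbits L) :=
        horb.trans ((Nat.mul_le_mul_left _ hsmall).trans (le_of_eq (by ring)))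
      have h4 : 11 * 11 ≤ p ^ 2 := by rw [sq]; exact Nat.mul_le_mul hp hp
      omega
    · rw [hF] at hzd
      exact plane_numeric hpp hp hzd hm
        (horb.trans ((Nat.mul_le_mul_left _ hzL).trans (le_of_eq (by ring)))) (hzk.trans hk) ho
  · have hidx := ly.index_le_scalarBound
    rw [h1, one_mul] at hidx
    have hq : ly.A.index = Nat.card (L ⧸ ly.A) := rfl
    have hcl := card_le_of_classNum_le (G := L ⧸ ly.A)
    rw [← hq] at hcl
    refine finite_numeric (q := ly.A.index) (kq := classNum (L ⧸ ly.A)) hpp hp hw hz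
      (Nat.one_le_iff_ne_zero.2 index_ne_zero_of_finite) hidx classNum_pos
      (fun h => two_le_classNum (hq ▸ h)) (fun h => ?_) (fun h => ?_) (fun h => ?_) hm
      ((ly.classes_lower h1).trans hk) ?_ ho
    · by_contra hc; have := hcl.1 (by omega); omega
    · by_contra hc; have := hcl.2.1 (by omega); omega
    · by_contra hc; have := hcl.2.2 (by omega); omega
    · rwa [← hcard]

/-- Classes and orbits of an irreducible solvable linear group of dimension at least two. -/
theorem linear_bound (V : Type u) [AddCommGroup V] (p : ℕ) [Fact p.Prime] [Module (ZMod p) V]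
    [Finite V] (L : Subgroup (V ≃ₗ[ZMod p] V)) (hsol : Group.IsSolvable L) (hL : Irred L)
    (he : 2 ≤ finrank (ZMod p) V) : 49 * p ≤ 60 * (classNum L + vecOrbits L) := by
  classical
  haveI := hsol
  have hpp : p.Prime := Fact.out
  have hF : Nat.card (ZMod p) = p := Nat.card_zmod p
  have ho1 := one_le_vecOrbits hL
  have hk1 : 1 ≤ classNum L := classNum_pos
  rcases Nat.lt_or_ge p 11 with hp | hp
  · have horb := pow_sub_one_le L
    rw [hF] at horb
    have h2 : p ^ 2 ≤ p ^ finrank (ZMod p) V := Nat.pow_le_pow_right hpp.pos he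
    obtain ⟨c1, c2, c3⟩ := card_le_of_classNum_le (G := L)
    have d2 : classNum L ≤ 2 → p ^ 2 - 1 ≤ vecOrbits L * 2 := fun h =>
      le_trans (by omega) (horb.trans (Nat.mul_le_mul_left _ (c1 h)))
    have d3 : classNum L ≤ 3 → p ^ 2 - 1 ≤ vecOrbits L * 6 := fun h =>
      le_trans (by omega) (horb.trans (Nat.mul_le_mul_left _ (c2 h)))
    have d4 : classNum L ≤ 4 → p ^ 2 - 1 ≤ vecOrbits L * 42 := fun h =>
      le_trans (by omega) (horb.trans (Nat.mul_le_mul_left _ (c3 h)))
    rcases (show p = 2 ∨ p = 3 ∨ p = 5 ∨ p = 7 by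
      interval_cases p <;> first | omega | exact absurd hpp (by norm_num)) with rfl | rfl | rfl | rfl
    all_goals omega
  haveI : Module.Finite (ZMod p) V := Module.Finite.of_finite
  have hex : ∃ n, ∃ B : Submodule (ZMod p) V, IsBlock L B ∧ 2 ≤ finrank (ZMod p) B ∧
      finrank (ZMod p) B = n :=
    ⟨_, ⊤, hL.top_isBlock, by rwa [finrank_top], rfl⟩
  obtain ⟨B, hB, hB2, hBn⟩ := Nat.find_spec hex
  haveI : Group.IsSolvable (blockGroup L B) :=
    Group.isSolvable_of_surjective (blockHom L B).rangeRestrict_surjective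
  have hLB : Irred (blockGroup L B) := hB.irred_blockGroup hL
  have hsmall : ∀ D : Submodule (ZMod p) B, IsBlock (blockGroup L B) D →
      D = ⊤ ∨ finrank (ZMod p) D ≤ 1 := by
    intro D hD
    by_contra hcon
    push Not at hcon
    obtain ⟨h1, h2⟩ := hB.refine_block hL hD
    have h3 := Nat.find_min' hex ⟨_, h1, by omega, rfl⟩
    refine hcon.1 (Submodule.eq_top_of_finrank_eq (le_antisymm D.finrank_le ?_))
    rw [hBn]; omega
  by_cases hprim : ∀ D : Submodule (ZMod p) B, IsBlock (blockGroup L B) D → D = ⊤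
  · obtain ⟨ly⟩ := exists_layer (r := p) hLB hprim
    have hchar : (2 : ZMod p) ≠ 0 := by
      intro h
      have h2 : ((2 : ℕ) : ZMod p) = 0 := h
      rw [ZMod.natCast_eq_zero_iff] at h2
      have := Nat.le_of_dvd two_pos h2
      omega
    haveI : Finite (Submodule (ZMod p) V) :=
      Finite.of_injective (fun W : Submodule (ZMod p) V => (W : Set V)) SetLike.coe_injective
    have hne : (blocks L B).Nonempty := ⟨_, 1, rfl⟩
    exact primitive_cases ly hchar hF hpp hp hB2 ((Set.ncard_pos (Set.toFinite _)).2 hne)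
      ((classNum_le_of_surjective _ (blockHom L B).rangeRestrict_surjective).trans
        ((classNum_subgroup_le _).trans (Nat.mul_le_mul_right _ (index_blockStab_le B))))
      hB.card_mul_vecOrbits_le
  push Not at hprim
  obtain ⟨D, hD, hDtop⟩ := hprim
  have hD1 : finrank (ZMod p) D = 1 := by
    have h1 := (hsmall D hD).resolve_left hDtop
    have h2 : finrank (ZMod p) D ≠ 0 := fun h => hD.ne (Submodule.finrank_eq_zero.1 h)
    omega
  have h := monomial_product hLB hD hD1 hB2 hsmall (by rw [hF]; exact hp)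
  rw [hF] at h
  exact sum_of_product (h.trans (Nat.mul_le_mul_left _ hB.classNum_mul_vecOrbits_le))

end CfsgLib.Solvable.ClassLinearBound
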