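import Cfsg.Agent.Lib.Solvable.ClassLinearBound.Small

/-!
# Classes of primitive solvable groups of the plane

Determinants bound the commutators lying in the scalars; in the plane an element whose square is not
scalar has non-zero trace, so all its multiples by scalars are in different classes.
-/

set_option autoImplicit false
set_option linter.unusedSectionVars false
set_option linter.style.haveILetI false

universe u v

namespace CfsgLib.Solvable.ClassLinearBound

open Subgroup Module CfsgLib.Solvable.ClassBound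

variable {F : Type v} {V : Type u} [Field F] [Finite F] [AddCommGroup V] [Module F V] [Finite V]
variable {L : Subgroup (V ≃ₗ[F] V)}

namespace Layer

variable (ly : Layer L)

theorem finrank_eq (h1 : ly.h = 1) : finrank F V = ly.w := by
  rw [← ly.dim, h1, one_mul]

theorem toEndHom_scalar (h1 : ly.h = 1) {a : L} (ha : a ∈ ly.A) :
    ∃ c : F, toEndHom L a = c • (1 : Module.End F V) := by
  obtain ⟨c, hc⟩ := ly.scalar h1 a ha
  exact ⟨c, LinearMap.ext fun v => hc v⟩

/-- Commutators in the scalars have order dividing the dimension. -/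
theorem comm_pow (h1 : ly.h = 1) {g x : L} (h : x * g * x⁻¹ * g⁻¹ ∈ ly.A) :
    (x * g * x⁻¹ * g⁻¹) ^ ly.w = 1 := by
  haveI : Module.Finite F V := Module.Finite.of_finite
  obtain ⟨c, hc⟩ := ly.toEndHom_scalar h1 h
  refine toEndHom_injective L ?_
  rw [map_pow, hc, smul_pow, one_pow, map_one, ← ly.finrank_eq h1]
  have e : LinearMap.det (toEndHom L (x * g * x⁻¹ * g⁻¹)) = 1 := by
    have hi : ∀ y : L, LinearMap.det (toEndHom L y) * LinearMap.det (toEndHom L y⁻¹) = 1 := fun y => by
      rw [← map_mul, ← map_mul, mul_inv_cancel, map_one, map_one]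
    simp only [map_mul]
    rw [mul_right_comm (LinearMap.det (toEndHom L x)), hi x, one_mul, hi g]
  rw [hc, LinearMap.det_smul, map_one, mul_one] at e
  rw [e, one_smul]

/-- The central elements killed by the dimension. -/
def torsion (h1 : ly.h = 1) : Subgroup L where
  carrier := {a | a ∈ ly.A ∧ a ^ ly.w = 1}
  one_mem' := ⟨one_mem _, one_pow _⟩
  mul_mem' := fun {a b} ha hb => ⟨mul_mem ha.1 hb.1, by
    rw [(show Commute a b from ly.central h1 a ha.1 b).mul_pow, ha.2, hb.2, one_mul]⟩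
  inv_mem' := fun {a} ha => ⟨inv_mem ha.1, by rw [inv_pow, ha.2, inv_one]⟩

theorem torsion_le (h1 : ly.h = 1) : ly.torsion h1 ≤ ly.A := fun _ ha => ha.1

theorem comm_mem_torsion (h1 : ly.h = 1) (g x : L) (h : x * g * x⁻¹ * g⁻¹ ∈ ly.A) :
    x * g * x⁻¹ * g⁻¹ ∈ ly.torsion h1 := ⟨h, ly.comm_pow h1 h⟩

theorem cyclic (h1 : ly.h = 1) : IsCyclic ly.A := by
  haveI : Module.Finite F V := Module.Finite.of_finite
  haveI : Nontrivial V := Module.nontrivial_of_finrank_pos (R := F) (by
    rw [ly.finrank_eq h1]; exact ly.one_le_w)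
  have hc : ∀ a : ly.A, ∃ c : F, toEndHom L a = c • (1 : Module.End F V) :=
    fun a => ly.toEndHom_scalar h1 a.2
  choose c hc using hc
  have huniq : ∀ c d : F, c • (1 : Module.End F V) = d • 1 → c = d :=
    fun c d e => smul_left_injective F one_ne_zero e
  let φ : ly.A →* F :=
  { toFun := c
    map_one' := huniq _ _ (by rw [← hc, one_smul]; exact map_one (toEndHom L))
    map_mul' := fun a b => huniq _ _ (by
      rw [← hc, coe_mul, map_mul, hc, hc, smul_mul_smul_comm, mul_one]) }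
  exact isCyclic_of_subgroup_isDomain φ fun a b e => Subtype.ext (toEndHom_injective L (by
    rw [hc, hc, show c a = c b from e]))

theorem card_torsion_le (h1 : ly.h = 1) :
    Nat.card (ly.torsion h1) ≤ Nat.gcd (Nat.card ly.A) ly.w := by
  haveI := ly.cyclic h1
  letI : CommGroup ly.A := { (inferInstance : Group ly.A) with
    mul_comm := fun a b => Subtype.ext (ly.A_comm a a.2 b b.2) }
  rw [← IsCyclic.card_powMonoidHom_ker (G := ly.A) (d := ly.w)]
  refine Nat.card_le_card_of_injective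
    (fun a => ⟨⟨(a : L), a.2.1⟩, MonoidHom.mem_ker.2 (Subtype.ext ?_)⟩) fun a b e => ?_
  · show ((⟨(a : L), a.2.1⟩ : ly.A) ^ ly.w : ly.A).1 = _
    rw [coe_pow]
    exact a.2.2
  · exact Subtype.ext (congrArg (fun z : (powMonoidHom ly.w : ly.A →* ly.A).ker => ((z : ly.A) : L)) e)

theorem div_gcd_le_relIndex (h1 : ly.h = 1) :
    Nat.card ly.A / Nat.gcd (Nat.card ly.A) ly.w ≤ (ly.torsion h1).relIndex ly.A := by
  have h2 := relIndex_mul_relIndex ⊥ (ly.torsion h1) ly.A bot_le (ly.torsion_le h1)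
  rw [relIndex_bot_left, relIndex_bot_left] at h2
  have h3 : (ly.torsion h1).relIndex ly.A = Nat.card ly.A / Nat.card (ly.torsion h1) := by
    rw [← h2, Nat.mul_div_cancel_left _ Nat.card_pos]
  rw [h3]
  exact Nat.div_le_div_left (ly.card_torsion_le h1) Nat.card_pos

/-- The lower bound for the classes above a scalar subgroup. -/
theorem classes_lower (h1 : ly.h = 1) :
    haveI := ly.A_normal
    Nat.card ly.A + (classNum (L ⧸ ly.A) - 1) *
      (Nat.card ly.A / Nat.gcd (Nat.card ly.A) ly.w) ≤ classNum L := by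
  haveI := ly.A_normal
  exact (Nat.add_le_add_left (Nat.mul_le_mul_left _ (ly.div_gcd_le_relIndex h1)) _).trans
    (classNum_lower ly.A (ly.central h1) (ly.torsion h1) (ly.comm_mem_torsion h1))

/-- In the plane an element with non-scalar square is not conjugate to a scalar multiple of itself. -/
theorem comm_eq_one (h1 : ly.h = 1) (h2 : ly.w = 2) (hchar : (2 : F) ≠ 0) {g x : L}
    (h : x * g * x⁻¹ * g⁻¹ ∈ ly.A) (hg : g * g ∉ ly.A) : x * g * x⁻¹ * g⁻¹ = 1 := by
  classical
  haveI : Module.Finite F V := Module.Finite.of_finite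
  haveI : Nontrivial V := Module.nontrivial_of_finrank_pos (R := F) (by
    rw [ly.finrank_eq h1]; exact ly.one_le_w)
  obtain ⟨c, hc⟩ := ly.toEndHom_scalar h1 h
  have hpow := congrArg (toEndHom L) (ly.comm_pow h1 h)
  rw [map_pow, hc, smul_pow, one_pow, map_one, h2] at hpow
  have hc2 : c ^ 2 = 1 :=
    smul_left_injective F (one_ne_zero (α := Module.End F V)) (hpow.trans (one_smul F _).symm)
  rcases sq_eq_one_iff.1 hc2 with rfl | rfl
  · exact toEndHom_injective L (by rw [hc, one_smul, map_one])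
  exfalso
  set b := Module.finBasisOfFinrankEq F V ((ly.finrank_eq h1).trans h2) with hb
  set M := LinearMap.toMatrix b b (toEndHom L g) with hM
  set X := LinearMap.toMatrix b b (toEndHom L x) with hX
  set X' := LinearMap.toMatrix b b (toEndHom L x⁻¹) with hX'
  have hXX : X' * X = 1 := by
    rw [hX, hX', ← LinearMap.toMatrix_mul, ← map_mul, inv_mul_cancel, map_one,
      LinearMap.toMatrix_one]
  have he : X * M * X' = -M := by
    have e1 : toEndHom L (x * g * x⁻¹) = -toEndHom L g := by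
      rw [show x * g * x⁻¹ = (x * g * x⁻¹ * g⁻¹) * g by group, map_mul, hc, neg_smul, one_smul,
        neg_one_mul]
    rw [map_mul, map_mul] at e1
    have e2 := congrArg (LinearMap.toMatrix b b) e1
    rwa [LinearMap.toMatrix_mul, LinearMap.toMatrix_mul, map_neg] at e2
  have htr : Matrix.trace M = 0 := by
    have e := congrArg Matrix.trace he
    rw [Matrix.trace_mul_comm, ← mul_assoc, hXX, one_mul, Matrix.trace_neg, eq_neg_iff_add_eq_zero,
      ← two_mul] at e
    exact (mul_eq_zero.1 e).resolve_left hchar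
  have hsq : M * M = (-M.det) • (1 : Matrix (Fin 2) (Fin 2) F) := by
    rw [Matrix.trace_fin_two] at htr
    have h0 : M 1 1 = -M 0 0 := eq_neg_of_add_eq_zero_right htr
    ext i j
    fin_cases i <;> fin_cases j <;>
      simp [Matrix.mul_apply, Fin.sum_univ_two, Matrix.det_fin_two, h0] <;> ring
  have hgg : toEndHom L (g * g) = (-M.det) • (1 : Module.End F V) := by
    refine (LinearMap.toMatrix b b).injective ?_
    rw [map_mul, LinearMap.toMatrix_mul, ← hM, hsq, map_smul, LinearMap.toMatrix_one]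
  refine hg (ly.scalar_mem _ fun y => toEndHom_injective L ?_)
  rw [map_mul (toEndHom L) (g * g) y, map_mul (toEndHom L) y (g * g), hgg, smul_mul_assoc,
    mul_smul_comm, one_mul, mul_one]

end Layer

section Klein

variable {Q : Type*} [Group Q] [Finite Q] (P : Subgroup Q) [P.Normal]
  (hP4 : Nat.card P = 4) (hP2 : ∀ v ∈ P, v * v = 1)
  (hC : ∀ g : Q, (∀ v ∈ P, g * v = v * g) → g ∈ P)

include hP4 hP2 hC in
/-- Five classes with three good ones when the Klein group has index more than three. -/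
theorem klein_weight [Fintype (ConjClasses Q)]
    (f : ConjClasses Q → ℕ) (hf : ∀ c, 1 ≤ f c)
    (hfgood : ∀ x : Q, x = 1 ∨ x * x ≠ 1 → 2 ≤ f (ConjClasses.mk x)) (hQ : 12 < Nat.card Q) :
    Nat.card Q ≤ 24 ∧ 8 ≤ ∑ c, f c := by
  classical
  set σ : Q →* MulAut P := MulAut.conjNormal with hσ
  have hσa : ∀ (g : Q) (v : P), ((σ g v : P) : Q) = g * v * g⁻¹ := fun g v => MulAut.conjNormal_apply g v
  have hcomm : ∀ a ∈ P, ∀ b ∈ P, a * b = b * a := fun a ha b hb => by
    have h := hP2 _ (mul_mem ha hb)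
    calc a * b = (a * b) * 1 := (mul_one _).symm
      _ = (a * b) * ((b * b) * (a * a))⁻¹ * ((a * b) * (a * b)) := by
        rw [hP2 b hb, hP2 a ha, h]; simp
      _ = _ := by
        rw [hP2 b hb, hP2 a ha, one_mul, inv_one, mul_one, h, mul_one]
        exact (eq_inv_of_mul_eq_one_left h).trans (by
          rw [mul_inv_rev, inv_eq_of_mul_eq_one_right (hP2 a ha), inv_eq_of_mul_eq_one_right (hP2 b hb)])
  have hker : σ.ker = P := by
    ext g
    rw [MonoidHom.mem_ker]
    constructor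
    · intro h
      refine hC g fun v hv => mul_inv_eq_iff_eq_mul.1 ?_
      have := hσa g ⟨v, hv⟩
      rw [h] at this
      exact this.symm
    · intro h
      refine MulEquiv.ext fun v => Subtype.ext ?_
      rw [hσa, hcomm g h v v.2, mul_inv_cancel_right]
      rfl
  haveI : Finite (MulAut P) := Finite.of_injective (fun e : MulAut P => (e : P → P)) DFunLike.coe_injective
  have hdvd6 : Nat.card σ.range ∣ 6 := by
    haveI : Fintype P := Fintype.ofFinite P
    let π : MulAut P →* Equiv.Perm {v : P // v ≠ 1} :=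
    { toFun := fun e => (MulEquiv.toEquiv e).subtypeEquiv fun v => by simp
      map_one' := Equiv.ext fun v => rfl
      map_mul' := fun a b => Equiv.ext fun v => rfl }
    have hπ : Function.Injective π := fun a b e => MulEquiv.ext fun v => by
      by_cases hv : v = 1
      · rw [hv, map_one, map_one]
      · exact congrArg Subtype.val (Equiv.congr_fun e ⟨v, hv⟩)
    refine (Subgroup.card_subgroup_dvd_card σ.range).trans ((Subgroup.card_dvd_of_injective π hπ).trans ?_)
    rw [Nat.card_perm, Nat.card_eq_fintype_card, Fintype.card_subtype_compl, Fintype.card_subtype_eq,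
      ← Nat.card_eq_fintype_card, hP4]
    decide
  have hcardQ : Nat.card Q = 4 * Nat.card σ.range := by
    rw [← σ.ker.card_mul_index, Subgroup.index_ker, hker, hP4]
  have hr6 : Nat.card σ.range = 6 := by
    have hle := Nat.le_of_dvd (by norm_num) hdvd6
    generalize Nat.card σ.range = r at hdvd6 hcardQ hle
    interval_cases r <;> omega
  refine ⟨by rw [hcardQ, hr6], ?_⟩
  -- representatives
  haveI : Fact (Nat.Prime 2) := ⟨Nat.prime_two⟩
  haveI : Fact (Nat.Prime 3) := ⟨Nat.prime_three⟩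
  obtain ⟨⟨_, a, rfl⟩, ha3⟩ := exists_prime_orderOf_dvd_card' (G := σ.range) 3 (by rw [hr6]; norm_num)
  obtain ⟨⟨_, b, rfl⟩, hb2⟩ := exists_prime_orderOf_dvd_card' (G := σ.range) 2 (by rw [hr6]; norm_num)
  rw [← orderOf_coe] at ha3 hb2
  change orderOf (σ a) = 3 at ha3
  change orderOf (σ b) = 2 at hb2
  have hσP : ∀ v ∈ P, σ v = 1 := fun v hv => MonoidHom.mem_ker.1 (hker.symm ▸ hv)
  have hbb : b * b ∈ P := by
    rw [← hker, MonoidHom.mem_ker, map_mul, ← pow_two, ← hb2, pow_orderOf_eq_one]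
  have hbv : ∀ v ∈ P, (b * v) * (b * v) = (b * v * b⁻¹) * ((b * b) * v) := fun v _ => by group
  obtain ⟨v₀, hv₀, hv₀'⟩ : ∃ v ∈ P, b * v * b⁻¹ ≠ v := by
    by_contra h
    push Not at h
    have h1 : σ b = 1 := MulEquiv.ext fun v => Subtype.ext ((hσa b v).trans (h v v.2))
    rw [h1, orderOf_one] at hb2
    omega
  obtain ⟨t, ht, htσ⟩ : ∃ t, t * t ≠ 1 ∧ σ t = σ b := by
    by_cases hb1 : b * b ≠ 1
    · exact ⟨b, hb1, rfl⟩
    push Not at hb1
    refine ⟨b * v₀, fun e => hv₀' ?_, by rw [map_mul, hσP v₀ hv₀, mul_one]⟩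
    rw [hbv v₀ hv₀, hb1, one_mul] at e
    rw [eq_inv_of_mul_eq_one_left e, inv_eq_of_mul_eq_one_right (hP2 v₀ hv₀)]
  obtain ⟨t', ht', ht'σ⟩ : ∃ t, t * t = 1 ∧ σ t = σ b := by
    by_cases hb1 : b * b = 1
    · exact ⟨b, hb1, rfl⟩
    refine ⟨b * v₀, ?_, by rw [map_mul, hσP v₀ hv₀, mul_one]⟩
    set v₁ := b * v₀ * b⁻¹ with hv₁
    set s := b * b with hs
    have hv₁P : v₁ ∈ P := Normal.conj_mem ‹P.Normal› v₀ hv₀ b
    have hsfix : b * s * b⁻¹ = s := by rw [hs]; group
    have hv₀1 : v₀ ≠ 1 := fun e => hv₀' (by rw [hv₁, e]; group)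
    have hv₁1 : v₁ ≠ 1 := fun e => hv₀1 (conj_eq_one_iff.1 e)
    have hsv₀ : s ≠ v₀ := fun e => hv₀' (by rw [hv₁, ← e, hsfix])
    have hsv₁ : s ≠ v₁ := fun e => hsv₀ (by
      have h1 : b⁻¹ * s * b = v₀ := by rw [e, hv₁]; group
      rw [← h1, hs]; group)
    haveI : Fintype P := Fintype.ofFinite P
    have hset : ({1, ⟨v₀, hv₀⟩, ⟨v₁, hv₁P⟩, ⟨s, hbb⟩} : Finset P) = Finset.univ := by
      refine Finset.eq_univ_of_card _ ?_
      rw [← Nat.card_eq_fintype_card, hP4]
      simp [Subtype.ext_iff, hv₀1.symm, hv₁1.symm, Ne.symm hb1, hv₀'.symm, hsv₀.symm, hsv₁.symm]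
    have hx : v₁ * v₀ = s := by
      have := Finset.mem_univ (⟨v₁ * v₀, mul_mem hv₁P hv₀⟩ : P)
      rw [← hset] at this
      simp only [Finset.mem_insert, Finset.mem_singleton, Subtype.ext_iff, coe_one] at this
      rcases this with e | e | e | e
      · refine absurd ?_ hv₀'
        rw [eq_inv_of_mul_eq_one_left e, inv_eq_of_mul_eq_one_right (hP2 v₀ hv₀)]
      · exact absurd (mul_eq_right.1 e) hv₁1
      · exact absurd (mul_eq_left.1 e) hv₀1
      · exact e
    rw [hbv v₀ hv₀, hcomm _ hbb v₀ hv₀, ← mul_assoc, hx, hP2 s hbb]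
  obtain ⟨u, hu, hu1⟩ := P.ne_bot_iff_exists_ne_one.1 (fun e => by rw [e, card_bot] at hP4; omega) |>
    fun ⟨z, hz⟩ => (⟨(z : Q), z.2, fun e => hz (Subtype.ext e)⟩ : ∃ x : Q, x ∈ P ∧ x ≠ 1)
  let rep : Fin 5 → Q := ![1, u, a, t, t']
  have hinv : ∀ x y : Q, ConjClasses.mk x = ConjClasses.mk y →
      orderOf (σ x) = orderOf (σ y) ∧ (x = 1 ↔ y = 1) ∧ (x * x = 1 ↔ y * y = 1) := fun x y h => by
    obtain ⟨c, rfl⟩ := isConj_iff.1 (ConjClasses.mk_eq_mk_iff_isConj.1 h)
    refine ⟨?_, conj_eq_one_iff.symm, ?_⟩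
    · rw [map_mul, map_mul, map_inv]
      exact (MulEquiv.orderOf_eq (MulAut.conj (σ c)) (σ x)).symm
    · rw [show c * x * c⁻¹ * (c * x * c⁻¹) = c * (x * x) * c⁻¹ by group, conj_eq_one_iff]
  have o1 : orderOf (σ (1 : Q)) = 1 := by rw [map_one, orderOf_one]
  have o2 : orderOf (σ u) = 1 := by rw [hσP u hu, orderOf_one]
  have o4 : orderOf (σ t) = 2 := htσ ▸ hb2
  have o5 : orderOf (σ t') = 2 := ht'σ ▸ hb2
  have hinj : Function.Injective fun i => ConjClasses.mk (rep i) := by
    intro i j e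
    obtain ⟨h1, h2, h3⟩ := hinv _ _ e
    fin_cases i <;> fin_cases j <;>
      first
        | rfl
        | (exfalso; simp [rep, o1, o2, ha3, o4, o5, hu1, ht, ht'] at h1 h2 h3)
  have hge : ∑ i : Fin 5, f (ConjClasses.mk (rep i)) ≤ ∑ c, f c := by
    rw [← Finset.sum_image (g := fun i => ConjClasses.mk (rep i)) (f := f) fun i _ j _ e => hinj e]
    exact Finset.sum_le_sum_of_subset (Finset.subset_univ _)
  refine le_trans ?_ hge
  have g0 := hfgood 1 (Or.inl rfl)
  have g2 := hfgood a (Or.inr fun e => by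
    have : orderOf (σ a) ∣ 2 := orderOf_dvd_of_pow_eq_one (by rw [pow_two, ← map_mul, e, map_one])
    rw [ha3] at this
    omega)
  have g3 := hfgood t (Or.inr ht)
  have g1 := hf (ConjClasses.mk u)
  have g4 := hf (ConjClasses.mk t')
  simp only [Fin.sum_univ_five, rep, Matrix.cons_val_zero, Matrix.cons_val_one, Matrix.head_cons,
    Matrix.cons_val_two, Matrix.cons_val_three, Matrix.cons_val_four, Matrix.tail_cons]
  omega

end Klein

/-- The plane: either the product is large, or there are `4 z` classes and at most `24 z`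
elements. -/
theorem Layer.plane_cases (ly : Layer L) (h1 : ly.h = 1) (h2 : ly.w = 2) (hchar : (2 : F) ≠ 0) :
    Nat.card L ≤ 4 * classNum L ∨
      ∃ z, z ∣ Nat.card F - 1 ∧ 4 * z ≤ classNum L ∧ Nat.card L ≤ 24 * z := by
  classical
  have hzdvd : Nat.card ly.A ∣ Nat.card F - 1 := by
    have := ly.card_dvd
    rwa [h1, pow_one] at this
  obtain ⟨e, he⟩ := ly.square
  have hn := ly.n_le
  rw [h2, he] at hn
  have he2 : e ≤ 2 := by
    by_contra h
    have : 9 ≤ e * e := Nat.mul_le_mul (by omega : 3 ≤ e) (by omega : 3 ≤ e)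
    omega
  have hn0 := ly.n_pos
  rcases (show e = 1 ∨ e = 2 by
    rcases Nat.eq_zero_or_pos e with h | h
    · subst h; omega
    · omega) with rfl | rfl
  · left
    have hi := ly.i_layer (by omega)
    rw [he, show layerBound (1 * 1) = 1 by decide +kernel] at hi
    have hidx := ly.index_le
    rw [h1, h2] at hidx
    have hk := ly.classes
    rw [h1, one_mul] at hk
    rw [← ly.A.card_mul_index, mul_comm]
    exact Nat.mul_le_mul (by omega) hk
  right
  obtain ⟨y, hy⟩ := (ly.primes 2 Nat.prime_two (by rw [he]; norm_num)).2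
  have hyd : y ∣ Nat.card F - 1 := (hy ▸ dvd_mul_left y 2 : y ∣ Nat.card ly.A).trans hzdvd
  haveI := ly.A_normal
  haveI := ly.E_normal
  haveI : (ly.E.map (QuotientGroup.mk' ly.A)).Normal :=
    ly.E_normal.map _ (QuotientGroup.mk'_surjective _)
  set P := ly.E.map (QuotientGroup.mk' ly.A) with hPdef
  have hP4 : Nat.card P = 4 := by
    rw [show (4 : ℕ) = ly.A.relIndex ly.E by rw [← ly.n_eq, he], hPdef,
      ← relIndex_bot_left, ← Subgroup.relIndex_comap]
    rw [MonoidHom.comap_bot, QuotientGroup.ker_mk']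
  have hE2 : ∀ x ∈ ly.E, x * x ∈ ly.A := fun x hx => by
    have := ly.pow_mem x hx
    rwa [h2, pow_two] at this
  have hP2 : ∀ v ∈ P, v * v = 1 := by
    rintro _ ⟨x, hx, rfl⟩
    rw [← map_mul]
    exact (QuotientGroup.eq_one_iff _).2 (hE2 x hx)
  -- only the layer centralises the layer
  let T : Subgroup L :=
    { carrier := {x | ∀ e ∈ ly.E, x * e * x⁻¹ * e⁻¹ ∈ ly.A}
      one_mem' := fun e _ => by simp
      mul_mem' := fun {c d} hc hd e he => by
        rw [show c * d * e * (c * d)⁻¹ * e⁻¹ = (c * (d * e * d⁻¹ * e⁻¹) * c⁻¹) *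
          (c * e * c⁻¹ * e⁻¹) by group]
        exact mul_mem (ly.A_normal.conj_mem _ (hd e he) c) (hc e he)
      inv_mem' := fun {c} hc e he => by
        rw [show c⁻¹ * e * c⁻¹⁻¹ * e⁻¹ = c⁻¹ * (c * e * c⁻¹ * e⁻¹)⁻¹ * c⁻¹⁻¹ by group]
        exact ly.A_normal.conj_mem _ (inv_mem (hc e he)) c⁻¹ }
  have hET : ly.E ≤ T := fun x hx e he => ly.comm x hx e he
  have hTA : ly.A.relIndex T ≤ 4 := by
    have := ly.kernel h1 T (ly.A_le.trans hET) fun x hx => hx
    rwa [h2] at this
  have hTE : T ≤ ly.E := by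
    refine relIndex_eq_one.1 ?_
    have h := relIndex_mul_relIndex ly.A ly.E T ly.A_le hET
    have h0 : ly.E.relIndex T ≠ 0 := by rw [relIndex]; exact index_ne_zero_of_finite
    rw [← ly.n_eq, he] at h
    omega
  have hC : ∀ g : L ⧸ ly.A, (∀ v ∈ P, g * v = v * g) → g ∈ P := by
    intro g hg
    obtain ⟨x, rfl⟩ := QuotientGroup.mk_surjective g
    refine ⟨x, hTE fun e he => ?_, rfl⟩
    have hxe : (x : L ⧸ ly.A) * (e : L ⧸ ly.A) = (e : L ⧸ ly.A) * (x : L ⧸ ly.A) :=
      hg (e : L ⧸ ly.A) ⟨e, he, rfl⟩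
    rw [← QuotientGroup.eq_one_iff, QuotientGroup.mk_mul, QuotientGroup.mk_mul,
      QuotientGroup.mk_mul, QuotientGroup.mk_inv, QuotientGroup.mk_inv, hxe,
      mul_inv_cancel_right, mul_inv_cancel]
  -- classes
  haveI : Fintype (ConjClasses (L ⧸ ly.A)) := Fintype.ofFinite _
  have hsec : ∀ c : ConjClasses (L ⧸ ly.A), ∃ g : L, ConjClasses.mk (g : L ⧸ ly.A) = c := fun c => by
    obtain ⟨q, rfl⟩ := ConjClasses.mk_surjective c
    obtain ⟨g, rfl⟩ := QuotientGroup.mk_surjective q
    exact ⟨g, rfl⟩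
  choose sec hsec using hsec
  let good : ConjClasses (L ⧸ ly.A) → Prop := fun c => sec c ∈ ly.A ∨ sec c * sec c ∉ ly.A
  let f : ConjClasses (L ⧸ ly.A) → ℕ := fun c => if good c then 2 else 1
  have hsum : (∑ c, f c) * y ≤ classNum L := by
    refine le_trans ?_ (sum_relIndex_le_classNum ly.A (ly.central h1) sec
      (fun c => if good c then ⊥ else ly.torsion h1) (fun c d x h => ?_) fun c x h => ?_)
    · rw [Finset.sum_mul]
      refine Finset.sum_le_sum fun c _ => ?_
      by_cases hc : good c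
      · simp only [f, if_pos hc, relIndex_bot_left, hy]
        exact le_rfl
      · simp only [f, if_neg hc, one_mul]
        refine le_trans ?_ (ly.div_gcd_le_relIndex h1)
        rw [h2, hy, Nat.gcd_mul_right_left, Nat.mul_div_cancel_left _ two_pos]
    · rw [← hsec c, ← hsec d]
      refine ConjClasses.mk_eq_mk_iff_isConj.2 (isConj_iff.2 ⟨(x : L ⧸ ly.A), ?_⟩)
      have e := (QuotientGroup.eq_one_iff _).2 h
      rwa [QuotientGroup.mk_mul, QuotientGroup.mk_inv, mul_inv_eq_one, QuotientGroup.mk_mul,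
        QuotientGroup.mk_mul, QuotientGroup.mk_inv] at e
    · split_ifs with hc
      · rcases hc with hc | hc
        · rw [← ly.central h1 _ hc x, mul_inv_cancel_right, mul_inv_cancel, mem_bot]
        · rw [ly.comm_eq_one h1 h2 hchar h hc, mem_bot]
      · exact ly.comm_mem_torsion h1 _ x h
  have hf1 : ∀ c, 1 ≤ f c := fun c => by simp only [f]; split_ifs <;> omega
  have hf2 : ∀ x : L ⧸ ly.A, x = 1 ∨ x * x ≠ 1 → 2 ≤ f (ConjClasses.mk x) := by
    intro x hx
    have hgood : good (ConjClasses.mk x) := by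
      obtain ⟨c, hc⟩ := isConj_iff.1 (ConjClasses.mk_eq_mk_iff_isConj.1 (hsec (ConjClasses.mk x)))
      rcases hx with hx | hx
      · left
        exact (QuotientGroup.eq_one_iff _).1 (conj_eq_one_iff.1 (hc.trans hx))
      · right
        intro hmem
        refine hx ?_
        set s : L ⧸ ly.A := (sec (ConjClasses.mk x) : L ⧸ ly.A) with hs
        rw [← hc, show c * s * c⁻¹ * (c * s * c⁻¹) = c * (s * s) * c⁻¹ by group, hs, ← QuotientGroup.mk_mul,
          (QuotientGroup.eq_one_iff _).2 hmem, mul_one, mul_inv_cancel]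
    simp only [f, if_pos hgood, le_refl]
  have hcard : Nat.card L = Nat.card (L ⧸ ly.A) * (2 * y) := by
    rw [← hy]; exact ly.A.card_eq_card_quotient_mul_card_subgroup
  by_cases hQ : 12 < Nat.card (L ⧸ ly.A)
  · obtain ⟨h24, h8⟩ := klein_weight P hP4 hP2 hC f hf1 hf2 hQ
    refine ⟨2 * y, hy ▸ hzdvd, ?_, ?_⟩
    · exact le_trans (by rw [show 4 * (2 * y) = 8 * y by ring]; exact Nat.mul_le_mul_right _ h8) hsum
    · rw [hcard]; exact Nat.mul_le_mul_right _ h24
  · refine ⟨y, hyd, ?_, ?_⟩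
    · refine le_trans (Nat.mul_le_mul_right _ ?_) hsum
      have h3 : 3 ≤ classNum (L ⧸ ly.A) := by
        by_contra h
        have h1' := (card_le_of_classNum_le (G := L ⧸ ly.A)).1 (by omega)
        have h2' : Nat.card P ≤ Nat.card (L ⧸ ly.A) := Nat.le_of_dvd Nat.card_pos (card_subgroup_dvd_card P)
        omega
      have hg1 := hf2 1 (Or.inl rfl)
      rw [← Finset.add_sum_erase _ _ (Finset.mem_univ (ConjClasses.mk (1 : L ⧸ ly.A)))]
      have h4 : (Finset.univ.erase (ConjClasses.mk (1 : L ⧸ ly.A))).card • 1 ≤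
          ∑ c ∈ Finset.univ.erase (ConjClasses.mk (1 : L ⧸ ly.A)), f c :=
        Finset.card_nsmul_le_sum _ f 1 fun c _ => hf1 c
      rw [Finset.card_erase_of_mem (Finset.mem_univ _), Finset.card_univ, ← Nat.card_eq_fintype_card,
        smul_eq_mul, mul_one] at h4
      change classNum (L ⧸ ly.A) - 1 ≤ _ at h4
      omega
    · rw [hcard, show 24 * y = 12 * (2 * y) by ring]
      exact Nat.mul_le_mul_right _ (by omega)

end CfsgLib.Solvable.ClassLinearBound
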