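import Cfsg.Agent.Lib.Solvable.ClassBound.Main
import Cfsg.Agent.Lib.Solvable.ClassLinearBound.Counting

/-!
# Reduction of the bound `49 p / 60` to irreducible linear groups

If `p ^ 2` divides the order of a solvable group `G` then, by induction, either a minimal normal
subgroup is a `p`-group of rank at least two, and the bound is that of the linear group induced on
it, or the Fitting subgroup has order `p ^ 2` with an abelian factor group and the bound follows by
counting the classes inside and outside it.
-/

set_option autoImplicit false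
set_option linter.style.haveILetI false

universe u

namespace CfsgLib.Solvable.ClassLinearBound

open Subgroup CfsgLib.Solvable.ClassBound

/-- Commutators act trivially on a normal subgroup of prime order. -/
theorem commute_commutator_of_card_prime {G : Type*} [Group G] (N : Subgroup G) [N.Normal]
    {p : ℕ} [Fact p.Prime] (hN : Nat.card N = p) (x y : G) {n : G} (hn : n ∈ N) :
    Commute (x * y * x⁻¹ * y⁻¹) n := by
  haveI : IsCyclic N := isCyclic_of_prime_card hN
  let T : G →* MulAut N := MulAut.conjNormal
  have hcomm : T (x * y * x⁻¹ * y⁻¹) = 1 := by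
    apply (IsCyclic.mulAutMulEquiv N).injective
    simp only [map_mul, map_inv, map_one]
    rw [mul_comm (IsCyclic.mulAutMulEquiv N (T x)), mul_inv_cancel_right, mul_inv_cancel]
  have h : ((T (x * y * x⁻¹ * y⁻¹) ⟨n, hn⟩ : N) : G) =
      (x * y * x⁻¹ * y⁻¹) * n * (x * y * x⁻¹ * y⁻¹)⁻¹ := MulAut.conjNormal_apply _ _
  rw [hcomm] at h
  exact (eq_mul_inv_iff_mul_eq.1 h).symm

/-- The numerical end of the abelian case. -/
theorem numeric_end {p o h k : ℕ} (hp : 2 ≤ p) (h1 : p ^ 2 - 1 ≤ o * h) (h2 : h + o ≤ k) :
    49 * p ≤ 60 * k := by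
  have hp2 : 4 ≤ p * p := Nat.mul_le_mul hp hp
  rw [pow_two] at h1
  have h3 : p * p ≤ o * h + 1 := by omega
  have h4 : (h + o) * (h + o) ≤ k * k := Nat.mul_le_mul h2 h2
  refine (Nat.pow_le_pow_iff_left two_ne_zero).1 ?_
  nlinarith [sq_nonneg ((h : ℤ) - o)]

/-- The inductive reduction. -/
theorem group_bound_aux (hlin : ∀ (V : Type u) [AddCommGroup V] (p : ℕ) [Fact p.Prime]
    [Module (ZMod p) V] [Finite V] (L : Subgroup (V ≃ₗ[ZMod p] V)), Group.IsSolvable L → Irred L →
      2 ≤ Module.finrank (ZMod p) V → 49 * p ≤ 60 * (classNum L + vecOrbits L)) :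
    ∀ (m : ℕ) (G : Type u) [Group G] [Finite G], Nat.card G ≤ m → Group.IsSolvable G →
      ∀ (p : ℕ) [Fact p.Prime], p ^ 2 ∣ Nat.card G → 49 * p ≤ 60 * classNum G := by
  intro m
  induction m with
  | zero => intro G _ _ h; exact absurd h (Nat.card_pos (α := G)).not_ge
  | succ m ih =>
    intro G _ _ hm hsol p _ hdvd
    classical
    have hp : p.Prime := Fact.out
    have hpG : p ∣ Nat.card G := (dvd_pow_self p two_ne_zero).trans hdvd
    haveI : Nontrivial G := Finite.one_lt_card_iff_nontrivial.1
      (lt_of_lt_of_le hp.one_lt (Nat.le_of_dvd Nat.card_pos hpG))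
    by_cases hred : ∃ N : Subgroup G, N.Normal ∧ N ≠ ⊥ ∧ p ^ 2 ∣ N.index
    · obtain ⟨N, hNn, hN, hNi⟩ := hred
      haveI := hNn
      have hlt : Nat.card (G ⧸ N) ≤ m := by
        have h2 := N.card_eq_card_quotient_mul_card_subgroup
        have h3 : 2 ≤ Nat.card N :=
          Finite.one_lt_card_iff_nontrivial.2 ((Subgroup.nontrivial_iff_ne_bot N).2 hN)
        have h4 := Nat.mul_le_mul_left (Nat.card (G ⧸ N)) h3
        have h5 : 0 < Nat.card (G ⧸ N) := Nat.card_pos
        omega
      refine (ih (G ⧸ N) hlt inferInstance p hNi).trans ?_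
      exact Nat.mul_le_mul_left _ (classNum_le_of_surjective _ (QuotientGroup.mk'_surjective N))
    push Not at hred
    -- minimal normal subgroups are `p`-groups
    have hmin : ∀ N : Subgroup G, N.Normal → N ≠ ⊥ →
        (∀ K : Subgroup G, K.Normal → K ≤ N → K = ⊥ ∨ K = N) →
        (∀ a ∈ N, ∀ b ∈ N, a * b = b * a) ∧ (∀ x ∈ N, x ^ p = 1) ∧
          ∃ e, Nat.card N = p ^ e ∧ 1 ≤ e := by
      intro N hNn hN hmin
      haveI := hNn
      obtain ⟨hc, r, hr, hexp, hpg⟩ := Basic.minimal_normal_solvable N hN hmin
      haveI := Fact.mk hr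
      obtain ⟨e, he⟩ := hpg.exists_card_eq
      by_cases hrp : r = p
      · subst hrp
        refine ⟨Basic.isMulCommutative_subgroup_iff.1 hc, hexp, e, he, ?_⟩
        rcases e with _ | e
        · exact absurd (Subgroup.card_eq_one.1 (by rw [he, pow_zero])) hN
        · omega
      · refine absurd ?_ (hred N hNn hN)
        have hcop : (p ^ 2).Coprime (Nat.card N) := by
          rw [he]
          exact Nat.Coprime.pow _ _ ((Nat.coprime_primes hp hr).2 (Ne.symm hrp))
        rw [← N.card_mul_index] at hdvd
        exact hcop.dvd_of_dvd_mul_left hdvd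
    -- a minimal normal subgroup of rank at least two
    by_cases hbig : ∃ N : Subgroup G, N.Normal ∧ N ≠ ⊥ ∧
        (∀ K : Subgroup G, K.Normal → K ≤ N → K = ⊥ ∨ K = N) ∧ Nat.card N ≠ p
    · obtain ⟨N, hNn, hN, hNmin, hNp⟩ := hbig
      haveI := hNn
      obtain ⟨hc, hexp, e, he, he1⟩ := hmin N hNn hN hNmin
      obtain ⟨V, i1, i2, i3, L, f, hf, -, hL, hcard, hkL⟩ := exists_rep N hc hN hNmin hexp
      haveI : Group.IsSolvable L := Group.isSolvable_of_surjective hf
      refine (hlin V p L inferInstance hL ?_).trans (Nat.mul_le_mul_left _ hkL)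
      haveI : Module.Finite (ZMod p) V := Module.Finite.of_finite
      rw [Module.natCard_eq_pow_finrank (K := ZMod p) (V := V), Nat.card_zmod, he] at hcard
      rw [Nat.pow_right_injective hp.two_le hcard]
      rcases Nat.lt_or_ge e 2 with h | h
      · exact absurd (by rw [he, show e = 1 by omega, pow_one]) hNp
      · exact h
    push Not at hbig
    obtain ⟨N, hNn, hN, -, hNmin⟩ :=
      Basic.exists_minimal_normal_le (H := (⊤ : Subgroup G)) top_ne_bot
    haveI := hNn
    have hNp : Nat.card N = p := hbig N hNn hN hNmin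
    have hp3 : ¬ p ^ 3 ∣ Nat.card G := fun h => hred N hNn hN (by
      rw [← N.card_mul_index, hNp, pow_succ'] at h
      exact (Nat.mul_dvd_mul_iff_left hp.pos).1 h)
    -- the Fitting subgroup is `O_p(G)`
    set F := Cfsg.fittingSubgroup G with hF
    have hFp : F = Cfsg.pCore p G := by
      rw [hF, Cores.fittingSubgroup_eq_iSup_pCore]
      refine le_antisymm (iSup_le fun q => ?_)
        (le_iSup (fun q : Nat.Primes => Cfsg.pCore (q : ℕ) G) ⟨p, hp⟩)
      by_contra hle
      have hne : Cfsg.pCore (q : ℕ) G ≠ ⊥ := fun h => hle (h ▸ bot_le)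
      obtain ⟨M, hMn, hM, hMle, hMmin⟩ := Basic.exists_minimal_normal_le hne
      haveI := Fact.mk q.2
      obtain ⟨k, hk⟩ := ((Cores.isPGroup_pCore (q : ℕ)).to_le hMle).exists_card_eq
      obtain ⟨-, -, e, he, he1⟩ := hmin M hMn hM hMmin
      have hpk : p ∣ (q : ℕ) ^ k := hk ▸ he ▸ dvd_pow_self p (by omega)
      exact hle (by rw [(Nat.prime_dvd_prime_iff_eq hp q.2).1 (hp.dvd_of_dvd_pow hpk)])
    have hNF : N ≤ F := by
      rw [hFp]
      exact Cores.le_pCore (IsPGroup.of_card (n := 1) (by rw [hNp, pow_one]))
    obtain ⟨k, hk⟩ : ∃ k, Nat.card F = p ^ k := hFp ▸ Cores.card_pow_of_pCore p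
    have hk2 : k ≤ 2 := by
      by_contra h
      exact hp3 ((pow_dvd_pow p (by omega : 3 ≤ k)).trans (hk ▸ card_subgroup_dvd_card F))
    have hk1 : 1 ≤ k := by
      by_contra h
      have h1 := Subgroup.card_dvd_of_le hNF
      rw [hNp, hk, show k = 0 by omega, pow_zero, Nat.dvd_one] at h1
      exact hp.ne_one h1
    have hCF : centralizer (F : Set G) ≤ F := Cores.centralizer_fittingSubgroup_le
    -- the Fitting subgroup is not of order `p`
    have hk' : k = 2 := by
      by_contra h
      have hFcard : Nat.card F = p := by rw [hk, show k = 1 by omega, pow_one]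
      haveI : IsCyclic F := isCyclic_of_prime_card hFcard
      let T : G →* MulAut F := MulAut.conjNormal
      have hker : T.ker ≤ F := fun g hg => hCF (mem_centralizer_iff.2 fun x hx => by
        have h1 : ((T g ⟨x, hx⟩ : F) : G) = g * x * g⁻¹ := MulAut.conjNormal_apply _ _
        rw [show T g = 1 from hg] at h1
        exact eq_mul_inv_iff_mul_eq.1 h1)
      have h2 : Nat.card G ∣ p * (p - 1) := by
        rw [← T.ker.card_mul_index, Subgroup.index_ker]
        refine Nat.mul_dvd_mul (hFcard ▸ Subgroup.card_dvd_of_le hker) ?_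
        have h3 := Subgroup.card_subgroup_dvd_card T.range
        rwa [IsCyclic.card_mulAut, hFcard, Nat.totient_prime hp] at h3
      have h4 := hdvd.trans h2
      rw [pow_two] at h4
      have h5 := Nat.le_of_dvd (by have := hp.two_le; omega)
        ((Nat.mul_dvd_mul_iff_left hp.pos).1 h4)
      have := hp.two_le
      omega
    rw [hk'] at hk
    have hFc : ∀ a ∈ F, ∀ b ∈ F, a * b = b * a := Basic.isMulCommutative_subgroup_iff.1
      (IsPGroup.isMulCommutative_of_card_eq_prime_sq hk)
    -- the factor group is abelian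
    have hidx : (F.index).Coprime p := by
      refine (hp.coprime_iff_not_dvd.2 fun h => hp3 ?_).symm
      rw [← F.card_mul_index, hk, show p ^ 3 = p ^ 2 * p by ring]
      exact Nat.mul_dvd_mul_left _ h
    have hab : ∀ a b : G ⧸ F, a * b = b * a := by
      intro a b
      induction a using QuotientGroup.induction_on with
      | H x =>
        induction b using QuotientGroup.induction_on with
        | H y =>
          set c := x * y * x⁻¹ * y⁻¹ with hc
          have hcN : ∀ n ∈ N, Commute c n := fun n hn =>
            commute_commutator_of_card_prime N hNp x y hn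
          have hcF : ∀ f ∈ F, c * f * c⁻¹ * f⁻¹ ∈ N := by
            intro f hf
            set F' := F.map (QuotientGroup.mk' N) with hF'
            haveI : F'.Normal :=
              Subgroup.Normal.map inferInstance _ (QuotientGroup.mk'_surjective N)
            have hF'card : Nat.card F' = p := by
              have h1 := Subgroup.relIndex_ker (f := QuotientGroup.mk' N) (K := F)
              rw [QuotientGroup.ker_mk'] at h1
              have h2 := Subgroup.relIndex_mul_relIndex ⊥ N F bot_le hNF
              rw [relIndex_bot_left, relIndex_bot_left, hNp, hk, h1, pow_two] at h2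
              exact mul_left_cancel₀ hp.ne_zero h2
            have h3 := commute_commutator_of_card_prime F' hF'card (QuotientGroup.mk' N x)
              (QuotientGroup.mk' N y) (Subgroup.mem_map_of_mem _ hf)
            have h4 : QuotientGroup.mk' N (c * f * c⁻¹ * f⁻¹) = 1 := by
              simp only [hc, map_mul, map_inv]
              rw [h3.eq, mul_inv_cancel_right, mul_inv_cancel]
            exact (QuotientGroup.eq_one_iff _).1 h4
          have hcp : c ^ p ∈ F := hCF (mem_centralizer_iff.2 fun f hf => by
            set n := c * f * c⁻¹ * f⁻¹ with hn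
            have hnN : n ∈ N := hcF f hf
            have hi : ∀ i : ℕ, c ^ i * f * (c ^ i)⁻¹ = n ^ i * f := by
              intro i
              induction i with
              | zero => simp
              | succ i ih =>
                calc c ^ (i + 1) * f * (c ^ (i + 1))⁻¹ = c * (c ^ i * f * (c ^ i)⁻¹) * c⁻¹ := by
                      rw [pow_succ']; group
                  _ = c * n ^ i * f * c⁻¹ := by rw [ih]; group
                  _ = n ^ i * (c * f * c⁻¹) := by rw [((hcN n hnN).pow_right i).eq]; group
                  _ = n ^ (i + 1) * f := by rw [hn, pow_succ]; group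
            have h1 := hi p
            rw [show n ^ p = 1 from (orderOf_dvd_iff_pow_eq_one).1 (hNp ▸
              Subgroup.orderOf_dvd_natCard N hnN), one_mul] at h1
            exact (mul_inv_eq_iff_eq_mul.1 h1).symm)
          have hcmem : c ∈ F := by
            have h1 : orderOf (c : G ⧸ F) ∣ p := orderOf_dvd_of_pow_eq_one (by
              rw [← QuotientGroup.mk_pow]; exact (QuotientGroup.eq_one_iff _).2 hcp)
            have h2 : orderOf (c : G ⧸ F) ∣ F.index := orderOf_dvd_natCard _
            have h3 := Nat.dvd_gcd h2 h1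
            rw [hidx.gcd_eq_one] at h3
            exact (QuotientGroup.eq_one_iff _).1 (orderOf_eq_one_iff.1 (Nat.dvd_one.1 h3))
          have h5 := (QuotientGroup.eq_one_iff c).2 hcmem
          simp only [hc, QuotientGroup.mk_mul, QuotientGroup.mk_inv] at h5
          exact mul_inv_eq_iff_eq_mul.1 (mul_inv_eq_one.1 h5)
    obtain ⟨o, ho, hoF⟩ := exists_classes_inside F hFc
    rw [classNum_of_comm hab] at ho
    rw [hk] at hoF
    exact numeric_end hp.two_le hoF ho

/-- The bound `49 p / 60` follows from that for irreducible solvable linear groups. -/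
theorem group_bound (hlin : ∀ (V : Type u) [AddCommGroup V] (p : ℕ) [Fact p.Prime]
    [Module (ZMod p) V] [Finite V] (L : Subgroup (V ≃ₗ[ZMod p] V)), Group.IsSolvable L → Irred L →
      2 ≤ Module.finrank (ZMod p) V → 49 * p ≤ 60 * (classNum L + vecOrbits L))
    {G : Type u} [Group G] [Finite G] (hsolv : Group.IsSolvable G) (p : ℕ) [Fact p.Prime]
    (hp : p ^ 2 ∣ Nat.card G) : 49 * p ≤ 60 * classNum G :=
  group_bound_aux hlin _ G le_rfl hsolv p hp

end CfsgLib.Solvable.ClassLinearBound
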