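import Cfsg.Agent.Lib.Solvable.ClassLinearBound.Layer
import Cfsg.Agent.Lib.Solvable.ClassBound.Monomial

/-!
# The groups induced on layers of order sixteen, thirty-six and sixty-four

These are bounded through the same structure over the field with two elements, and the table
`scalarBound` bounds the index of the scalars of a primitive solvable group.
-/

set_option autoImplicit false
set_option linter.unusedSectionVars false
set_option linter.style.haveILetI false

universe u v

namespace CfsgLib.Solvable.ClassLinearBound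

open Subgroup Module CfsgLib.Solvable.ClassBound
open CfsgLib.Perm.OddBase (IsPairing Invariant)

/-- The automorphisms of an elementary abelian group. -/
theorem card_addEquiv_le {U : Type*} [AddCommGroup U] [Finite U] {q d : ℕ} [Fact q.Prime]
    (hq : ∀ x : U, q • x = 0) (hd : Nat.card U = q ^ d) :
    Nat.card (U ≃+ U) ≤ (q ^ d - 1).descFactorial d := by
  classical
  letI : Module (ZMod q) U := AddCommGroup.zmodModule (n := q) hq
  haveI : Module.Finite (ZMod q) U := Module.Finite.of_finite
  have hrank : finrank (ZMod q) U = d := by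
    have := Module.natCard_eq_pow_finrank (K := ZMod q) (V := U)
    rw [Nat.card_zmod, hd] at this
    exact (Nat.pow_right_injective (Fact.out : q.Prime).two_le this).symm
  let b := Module.finBasisOfFinrankEq (ZMod q) U hrank
  have hs : (Finset.univ.image b).card = d := by
    rw [Finset.card_image_of_injective _ b.injective, Finset.card_univ, Fintype.card_fin]
  have h := card_le_descFactorial (fun f : U ≃+ U => (f : U → U)) 0 (Finset.univ.image b)
    (fun h => by
      obtain ⟨j, -, hj⟩ := Finset.mem_image.1 h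
      exact b.ne_zero j hj)
    (fun f => f.injective) (fun f => map_zero f)
    (fun f g hfg => AddEquiv.ext fun x => LinearMap.congr_fun (b.ext
      (f₁ := f.toAddMonoidHom.toZModLinearMap q) (f₂ := g.toAddMonoidHom.toZModLinearMap q)
      fun j => hfg _ (Finset.mem_image_of_mem b (Finset.mem_univ j))) x)
  rwa [hs, hd] at h

/-- Restriction to an invariant subgroup. -/
def restrictTo {Γ W : Type*} [Group Γ] [AddCommGroup W] [DistribMulAction Γ W] (U : AddSubgroup W)
    (hU : Invariant Γ W U) (g : Γ) : U ≃+ U where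
  toFun x := ⟨g • (x : W), hU g x x.2⟩
  invFun x := ⟨g⁻¹ • (x : W), hU g⁻¹ x x.2⟩
  left_inv x := Subtype.ext (inv_smul_smul g (x : W))
  right_inv x := Subtype.ext (smul_inv_smul g (x : W))
  map_add' x y := Subtype.ext (smul_add g (x : W) y)

theorem restrictTo_eq {Γ W : Type*} [Group Γ] [AddCommGroup W] [DistribMulAction Γ W]
    {U : AddSubgroup W} {hU : Invariant Γ W U} {g k : Γ}
    (h : restrictTo U hU g = restrictTo U hU k) {x : W} (hx : x ∈ U) : g • x = k • x :=
  congrArg Subtype.val (DFunLike.congr_fun h ⟨x, hx⟩ :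
    restrictTo U hU g ⟨x, hx⟩ = restrictTo U hU k ⟨x, hx⟩)

/-- Two invariant subgroups with sum everything. -/
theorem index_ker_le_mul {Γ W : Type*} [Group Γ] [Finite Γ] [AddCommGroup W] [Finite W]
    [DistribMulAction Γ W] {U Y : AddSubgroup W} (hU : Invariant Γ W U) (hY : Invariant Γ W Y)
    (htop : U ⊔ Y = ⊤) :
    (DistribMulAction.toAddMonoidEnd Γ W).ker.index ≤ Nat.card (U ≃+ U) * Nat.card (Y ≃+ Y) := by
  haveI : Finite (U ≃+ U) := Finite.of_injective (fun f : U ≃+ U => (f : U → U)) DFunLike.coe_injective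
  haveI : Finite (Y ≃+ Y) := Finite.of_injective (fun f : Y ≃+ Y => (f : Y → Y)) DFunLike.coe_injective
  rw [← Nat.card_prod, Subgroup.index]
  refine Nat.card_le_card_of_injective (fun q => (restrictTo U hU (Quotient.out q),
    restrictTo Y hY (Quotient.out q))) fun q q' e => ?_
  simp only [Prod.mk.injEq] at e
  rw [← Quotient.out_eq q, ← Quotient.out_eq q']
  refine QuotientGroup.eq.2 (MonoidHom.mem_ker.2 (AddMonoidHom.ext fun x => ?_))
  show ((Quotient.out q : Γ)⁻¹ * Quotient.out q') • x = x
  obtain ⟨a, ha, b, hb, rfl⟩ := AddSubgroup.mem_sup.1 (htop ▸ AddSubgroup.mem_top x)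
  rw [mul_smul, smul_add (Quotient.out q' : Γ), ← restrictTo_eq e.1 ha, ← restrictTo_eq e.2 hb,
    ← smul_add, inv_smul_smul]

/-- The bound for a linear group permuting blocks. -/
theorem card_le_of_block {F V : Type*} [Field F] [Finite F] [AddCommGroup V] [Module F V]
    [Finite V] {q : ℕ} [Fact q.Prime] (hq : ∀ x : V, q • x = 0)
    {L : Subgroup (V ≃ₗ[F] V)} {B : Submodule F V} (hB : IsBlock L B) {d : ℕ}
    (hd : Nat.card B = q ^ d) :
    Nat.card L ≤ (blocks L B).ncard.factorial *
      ((q ^ d - 1).descFactorial d) ^ (blocks L B).ncard := by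
  classical
  haveI : Finite (Submodule F V) :=
    Finite.of_injective (fun W : Submodule F V => (W : Set V)) SetLike.coe_injective
  haveI : Fintype (blocks L B) := Fintype.ofFinite _
  set π := blockPerm L B with hπ
  have hidx : π.ker.index ≤ (blocks L B).ncard.factorial := by
    rw [Subgroup.index_ker]
    refine (Nat.card_le_card_of_injective Subtype.val Subtype.val_injective).trans (le_of_eq ?_)
    rw [Nat.card_perm, Nat.card_coe_set_eq]
  rw [← π.ker.card_mul_index, mul_comm]
  refine Nat.mul_le_mul hidx ?_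
  have hfix : ∀ g ∈ π.ker, ∀ i : blocks L B, ∀ v ∈ (i : Submodule F V),
      (g : V ≃ₗ[F] V) v ∈ (i : Submodule F V) := fun g hg i v hv => by
    have h2 : img (g : V ≃ₗ[F] V) i = (i : Submodule F V) := by
      have h1 := blockPerm_apply B g i
      rw [← hπ, MonoidHom.mem_ker.1 hg] at h1
      exact h1.symm
    have := apply_mem_img (g : V ≃ₗ[F] V) hv
    rwa [h2] at this
  have hres : ∀ g : π.ker, ∀ i : blocks L B, ∃ f : (i : Submodule F V) ≃+ (i : Submodule F V),
      ∀ x, (f x : V) = ((g : L) : V ≃ₗ[F] V) x := fun g i =>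
    ⟨{ toFun := fun x => ⟨((g : L) : V ≃ₗ[F] V) x, hfix _ g.2 i _ x.2⟩
       invFun := fun x => ⟨(((g : L)⁻¹ : L) : V ≃ₗ[F] V) x, hfix _ (inv_mem g.2) i _ x.2⟩
       left_inv := fun x => Subtype.ext (LinearEquiv.symm_apply_apply ((g : L) : V ≃ₗ[F] V) (x : V))
       right_inv := fun x => Subtype.ext (LinearEquiv.apply_symm_apply ((g : L) : V ≃ₗ[F] V) (x : V))
       map_add' := fun x y => Subtype.ext (map_add ((g : L) : V ≃ₗ[F] V) (x : V) y) },
      fun x => rfl⟩
  choose res hres using hres
  haveI : ∀ i : blocks L B, Finite ((i : Submodule F V) ≃+ (i : Submodule F V)) := fun i =>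
    Finite.of_injective (fun f : (i : Submodule F V) ≃+ (i : Submodule F V) => ⇑f)
      DFunLike.coe_injective
  refine le_trans (Nat.card_le_card_of_injective (fun g => res g) fun g k e => ?_) ?_
  · refine Subtype.ext (Subtype.ext (LinearEquiv.ext fun v => ?_))
    have hle : (⊤ : Submodule F V) ≤ LinearMap.ker
        ((((g : L) : V ≃ₗ[F] V) : V →ₗ[F] V) - (((k : L) : V ≃ₗ[F] V) : V →ₗ[F] V)) := by
      rw [← hB.span]
      refine iSup_le fun a x hx => ?_
      rw [LinearMap.mem_ker, LinearMap.sub_apply, sub_eq_zero]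
      have := congrArg Subtype.val (DFunLike.congr_fun (congrFun e ⟨_, a, rfl⟩) ⟨x, hx⟩)
      rw [hres, hres] at this
      exact this
    exact sub_eq_zero.1 (hle (Submodule.mem_top (x := v)))
  · rw [Nat.card_pi, ← Nat.card_coe_set_eq, Nat.card_eq_fintype_card, ← Finset.card_univ]
    refine Finset.prod_le_pow_card _ _ _ fun i _ => ?_
    refine card_addEquiv_le (fun x => Subtype.ext (hq x)) ?_
    obtain ⟨_, g, rfl⟩ := i
    rw [← hd]
    exact Nat.card_congr ((((g : L) : V ≃ₗ[F] V).submoduleMap B).toEquiv).symm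

/-- Irreducible solvable groups on sixteen or sixty-four vectors. -/
theorem card_irred_two {V : Type u} [AddCommGroup V] [Module (ZMod 2) V] [Finite V]
    {L : Subgroup (V ≃ₗ[ZMod 2] V)} [Group.IsSolvable L] (hL : Irred L) :
    (finrank (ZMod 2) V = 4 → Nat.card L ≤ 144) ∧
      (finrank (ZMod 2) V = 6 → Nat.card L ≤ 500000) := by
  classical
  haveI : Fact (Nat.Prime 2) := ⟨Nat.prime_two⟩
  haveI : Module.Finite (ZMod 2) V := Module.Finite.of_finite
  have h2 : ∀ x : V, 2 • x = 0 := fun x => by
    rw [two_nsmul]; exact ZModModule.add_self x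
  have key : ∀ B : Submodule (ZMod 2) V, IsBlock L B → B ≠ ⊤ → ∃ d m, d < finrank (ZMod 2) V ∧
      m * d = finrank (ZMod 2) V ∧ Nat.card L ≤ m.factorial * ((2 ^ d - 1).descFactorial d) ^ m := by
    intro B hB hne
    haveI : Finite (Submodule (ZMod 2) V) :=
      Finite.of_injective (fun W : Submodule (ZMod 2) V => (W : Set V)) SetLike.coe_injective
    haveI : Fintype (blocks L B) := Fintype.ofFinite _
    refine ⟨finrank (ZMod 2) B, (blocks L B).ncard, Submodule.finrank_lt hne, ?_,
      card_le_of_block h2 hB (by rw [Module.natCard_eq_pow_finrank (K := ZMod 2), Nat.card_zmod])⟩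
    refine le_antisymm hB.card ?_
    refine (finrank_le_sum (fun i : blocks L B => (i : Submodule (ZMod 2) V)) ?_).trans (le_of_eq ?_)
    · rw [← hB.span]
      exact iSup_le fun g => le_iSup_of_le (⟨_, g, rfl⟩ : blocks L B) le_rfl
    · rw [Finset.sum_const_nat (m := finrank (ZMod 2) B), Finset.card_univ, ← Nat.card_eq_fintype_card,
        Nat.card_coe_set_eq]
      rintro ⟨_, g, rfl⟩ -
      exact finrank_img _ B
  by_cases hp : ∀ B : Submodule (ZMod 2) V, IsBlock L B → B = ⊤
  swap
  · push Not at hp
    obtain ⟨B, hB, hne⟩ := hp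
    obtain ⟨d, m, hd, hmd, hle⟩ := key B hB hne
    refine ⟨fun he => hle.trans ?_, fun he => hle.trans ?_⟩
    all_goals
      rw [he] at hd hmd
      have hm : m ≤ 6 := by
        rcases Nat.eq_zero_or_pos d with rfl | hd0
        · omega
        · have := Nat.le_mul_of_pos_right m hd0
          omega
      interval_cases d <;> interval_cases m <;> first | omega | norm_num [Nat.factorial, Nat.descFactorial]
  obtain ⟨ly⟩ := exists_layer (r := 2) hL hp
  have hA : Nat.card ly.A ≤ 2 ^ ly.h - 1 := by
    have h1 := ly.card_le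
    rw [Nat.card_zmod] at h1
    omega
  have hodd : ¬ 2 ∣ Nat.card ly.A := fun h => by
    have h1 := h.trans ly.card_dvd
    rw [Nat.card_zmod] at h1
    have := ly.one_le_h
    have h3 : 2 ∣ 2 ^ ly.h := dvd_pow_self 2 (by omega)
    have : 1 ≤ 2 ^ ly.h := Nat.one_le_two_pow
    omega
  have hcard : Nat.card L ≤ (2 ^ ly.h - 1) * (ly.h * (ly.w ^ 2 * ly.i)) := by
    rw [← ly.A.card_mul_index]
    exact Nat.mul_le_mul hA ly.index_le
  obtain ⟨e, he⟩ := ly.square
  have hn := ly.n_le
  have hew : e ≤ ly.w := by
    rw [he, sq] at hn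
    exact Nat.mul_self_le_mul_self_iff.1 hn
  have hn0 := ly.n_pos
  have hno2 : ¬ 2 ∣ ly.n := fun h => hodd (ly.primes 2 Nat.prime_two h).2
  have hprimes : ∀ ℓ, ℓ.Prime → ℓ ∣ ly.n → ℓ ∣ ly.w := fun ℓ h1 h2 => (ly.primes ℓ h1 h2).1
  refine ⟨fun hdim => ?_, fun hdim => ?_⟩
  all_goals
    have hhw := ly.dim
    rw [hdim] at hhw
    have hw6 : ly.w ≤ 6 := by
      have := Nat.le_mul_of_pos_left ly.w ly.one_le_h
      omega
    have hh6 : ly.h ≤ 6 := by
      have := Nat.le_mul_of_pos_right ly.h ly.one_le_w
      omega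
    have hi := ly.i_layer (by nlinarith)
    refine hcard.trans ((Nat.mul_le_mul_left _ (Nat.mul_le_mul_left _ (Nat.mul_le_mul_left _ hi))).trans ?_)
    have h5 : ¬ 5 ∣ ly.n ∨ ly.w = 5 := by
      by_cases h : 5 ∣ ly.n
      · have := Nat.le_of_dvd (by have := ly.one_le_w; omega) (hprimes 5 (by norm_num) h)
        have := hprimes 5 (by norm_num) h
        omega
      · exact Or.inl h
    have h3 : 3 ∣ ly.n → 3 ∣ ly.w := hprimes 3 (by norm_num)
    have h1w := ly.one_le_w
    have h1h := ly.one_le_h
    generalize ly.n = n, ly.w = w, ly.h = hh at *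
    subst he
    interval_cases w <;> interval_cases hh <;> (try omega) <;> interval_cases e <;>
      first | omega | decide +kernel

/-- Layers of order sixteen. -/
theorem imageLE_sixteen : ImageLE.{u} 16 144 ∧ ImageLE.{u} 64 500000 := by
  constructor
  all_goals
    intro Γ W K _ _ _ _ _ _ β hs hpair hcard
    classical
    haveI := hs
    haveI : Fact (Nat.Prime 2) := ⟨Nat.prime_two⟩
    obtain ⟨N, hN⟩ : ∃ N, Nat.card W = 2 ^ N := by
      refine ⟨if Nat.card W = 16 then 4 else 6, ?_⟩
      rw [hcard]
      norm_num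
    have hel : ∀ x : W, 2 • x = 0 := hpair.elementary hN
    letI : Module (ZMod 2) W := AddCommGroup.zmodModule (n := 2) hel
    haveI : Nontrivial W := Finite.one_lt_card_iff_nontrivial.1 (by omega)
    have hno2 : ∀ U : AddSubgroup W, Invariant Γ W U → Nat.card U ≠ 2 := by
      intro U hU h2
      have hbot := hpair.no_isotropic U hU fun x hx y hy => by
        by_cases hx0 : x = 0
        · rw [hx0]; exact hpair.zero_left y
        by_cases hy0 : y = 0
        · rw [hy0]; exact hpair.zero_right x
        obtain ⟨a, b, hab, huniv⟩ := Nat.card_eq_two_iff.1 h2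
        have : x = y := by
          have m : ∀ z : U, z = a ∨ z = b := fun z => by
            have := huniv.symm ▸ Set.mem_univ z
            simpa using this
          rcases m ⟨x, hx⟩ with e1 | e1 <;> rcases m ⟨y, hy⟩ with e2 | e2 <;>
            rcases m 0 with e3 | e3 <;>
            first
              | exact congrArg Subtype.val (e1.trans e2.symm)
              | exact absurd (congrArg Subtype.val (e1.trans e3.symm)) hx0
              | exact absurd (congrArg Subtype.val (e2.trans e3.symm)) hy0
        rw [this]; exact hpair.self y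
      rw [hbot, AddSubgroup.card_bot] at h2
      omega
    by_cases hirr : ∀ U : AddSubgroup W, Invariant Γ W U → U = ⊥ ∨ U = ⊤
    swap
    · push Not at hirr
      obtain ⟨U, hU, hU0, hU1⟩ := hirr
      obtain ⟨Y, hY, hbot, htop⟩ := hpair.isCR U hU
      refine (index_ker_le_mul hU hY htop).trans ?_
      have hmul : Nat.card U * Nat.card Y = Nat.card W := by
        rw [← Nat.card_prod]
        refine Nat.card_congr (Equiv.ofBijective (fun z : U × Y => (z.1 : W) + z.2)
          ⟨AddSubgroup.add_injective_of_disjoint (disjoint_iff.2 hbot), fun x => ?_⟩)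
        obtain ⟨a, ha, b, hb, rfl⟩ := AddSubgroup.mem_sup.1 (htop ▸ AddSubgroup.mem_top x)
        exact ⟨(⟨a, ha⟩, ⟨b, hb⟩), rfl⟩
      obtain ⟨a, ha, hUa⟩ := (Nat.dvd_prime_pow Nat.prime_two).1
        (hN ▸ AddSubgroup.card_addSubgroup_dvd_card U)
      obtain ⟨b, hb, hYb⟩ := (Nat.dvd_prime_pow Nat.prime_two).1
        (hN ▸ AddSubgroup.card_addSubgroup_dvd_card Y)
      have h1 := card_addEquiv_le (q := 2) (d := a) (fun x : U => Subtype.ext (hel x)) hUa
      have h2 := card_addEquiv_le (q := 2) (d := b) (fun x : Y => Subtype.ext (hel x)) hYb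
      refine (Nat.mul_le_mul h1 h2).trans ?_
      have hne1 : Nat.card U ≠ 1 := fun h => hU0 (AddSubgroup.eq_bot_of_card_eq _ h)
      have hne2 : Nat.card Y ≠ 1 := fun h => hU1 (AddSubgroup.eq_top_of_card_eq _ (by
        rw [h, mul_one] at hmul; exact hmul))
      have h21 := hno2 U hU
      have h22 := hno2 Y hY
      rw [hUa] at hne1 h21
      rw [hYb] at hne2 h22
      rw [hUa, hYb, ← pow_add] at hmul
      have hN6 : N ≤ 6 := by
        by_contra hcon
        have : 2 ^ 7 ≤ 2 ^ N := Nat.pow_le_pow_right (by norm_num) (by omega)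
        omega
      have hab : a + b = N := Nat.pow_right_injective le_rfl (hmul.trans hN)
      have ha6 : a ≤ 6 := by omega
      have hb6 : b ≤ 6 := by omega
      interval_cases a <;> interval_cases b <;> subst hab <;> norm_num at hN <;>
        first | omega | norm_num [Nat.descFactorial]
    · let ρ : Γ →* (W ≃ₗ[ZMod 2] W) :=
        { toFun := fun g => { DistribMulAction.toAddEquiv W g with
            map_smul' := fun c x => ZMod.map_smul (DistribMulAction.toAddEquiv W g).toAddMonoidHom c x }
          map_one' := LinearEquiv.ext fun x => one_smul Γ x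
          map_mul' := fun g k => LinearEquiv.ext fun x => mul_smul g k x }
      let ρ' : Γ →* (W ≃ₗ[ZMod 2] W) := ρ
      haveI : Group.IsSolvable ρ'.range := Group.isSolvable_of_surjective ρ'.rangeRestrict_surjective
      have hL : Irred ρ'.range := by
        refine ⟨exists_ne 0, fun U hU => ?_⟩
        rcases hirr U.toAddSubgroup (fun g x hx => hU (ρ' g) ⟨g, rfl⟩ x hx) with h | h
        · exact Or.inl (Submodule.toAddSubgroup_injective (h.trans Submodule.bot_toAddSubgroup.symm))
        · exact Or.inr (Submodule.toAddSubgroup_injective (h.trans Submodule.top_toAddSubgroup.symm))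
      have hdim : finrank (ZMod 2) W = N := by
        haveI : Module.Finite (ZMod 2) W := Module.Finite.of_finite
        have := Module.natCard_eq_pow_finrank (K := ZMod 2) (V := W)
        rw [Nat.card_zmod, hN] at this
        exact (Nat.pow_right_injective le_rfl this).symm
      have hk : (DistribMulAction.toAddMonoidEnd Γ W).ker = ρ'.ker := by
        ext g
        rw [MonoidHom.mem_ker, MonoidHom.mem_ker]
        exact ⟨fun h => LinearEquiv.ext fun x => DFunLike.congr_fun h x,
          fun h => AddMonoidHom.ext fun x => LinearEquiv.congr_fun h x⟩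
      rw [hk, Subgroup.index_ker]
      have hNv : N = 4 ∨ N = 6 := by
        have := hN.symm.trans hcard
        rcases Nat.lt_or_ge N 7 with h | h
        · interval_cases N <;> norm_num at this <;> simp
        · have : 2 ^ 7 ≤ 2 ^ N := Nat.pow_le_pow_right (by norm_num) h
          omega
      first
        | exact (card_irred_two (L := ρ'.range) hL).1 (hdim.trans (hNv.resolve_right fun h => by
            rw [h, hcard] at hN; norm_num at hN))
        | exact (card_irred_two (L := ρ'.range) hL).2 (hdim.trans (hNv.resolve_left fun h => by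
            rw [h, hcard] at hN; norm_num at hN))

/-- Layers of order thirty-six. -/
theorem imageLE_thirtysix : ImageLE.{u} 36 1296 := by
  intro Γ W K _ _ _ _ _ _ β hs hpair hcard
  classical
  have h6 : ∀ x : W, 6 • x = 0 := fun x => hpair.squarefree_exponent (r := 6) (by
    rw [smul_smul, show 6 * 6 = Nat.card W by rw [hcard]]
    exact card_nsmul_eq_zero')
  let T : ℕ → AddSubgroup W := fun q => (DistribMulAction.toAddMonoidHom W q).ker
  have hT : ∀ q x, x ∈ T q ↔ q • x = 0 := fun q x => Iff.rfl
  have hTi : ∀ q, Invariant Γ W (T q) := fun q g x hx => by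
    rw [hT] at hx ⊢
    rw [smul_comm, hx, smul_zero]
  have htop : T 2 ⊔ T 3 = ⊤ := by
    refine eq_top_iff.2 fun x _ => ?_
    have e : x = 3 • x + (-(2 • x)) := by
      rw [← sub_eq_add_neg, eq_sub_iff_add_eq, ← succ_nsmul']
    rw [e]
    exact AddSubgroup.add_mem_sup
      ((hT 2 _).2 (by rw [smul_smul]; exact h6 x))
      ((hT 3 _).2 (by rw [smul_neg, smul_smul]; exact neg_eq_zero.2 (h6 x)))
  refine (index_ker_le_mul (hTi 2) (hTi 3) htop).trans ?_
  have hp : ∀ q, q.Prime → ∃ d, Nat.card (T q) = q ^ d := fun q hq => by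
    haveI := Fact.mk hq
    have : IsPGroup q (Multiplicative (T q)) := fun x => ⟨1, by
      rw [pow_one]
      exact Multiplicative.toAdd.injective (Subtype.ext (Multiplicative.toAdd x).2)⟩
    exact this.exists_card_eq
  obtain ⟨a, ha⟩ := hp 2 Nat.prime_two
  obtain ⟨b, hb⟩ := hp 3 Nat.prime_three
  have hda : 2 ^ a ∣ 36 := ha ▸ hcard ▸ AddSubgroup.card_addSubgroup_dvd_card (T 2)
  have hdb : 3 ^ b ∣ 36 := hb ▸ hcard ▸ AddSubgroup.card_addSubgroup_dvd_card (T 3)
  have ha2 : a ≤ 2 := by
    by_contra h
    exact absurd ((pow_dvd_pow 2 (by omega : 3 ≤ a)).trans hda) (by norm_num)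
  have hb2 : b ≤ 2 := by
    by_contra h
    exact absurd ((pow_dvd_pow 3 (by omega : 3 ≤ b)).trans hdb) (by norm_num)
  haveI : Fact (Nat.Prime 2) := ⟨Nat.prime_two⟩
  haveI : Fact (Nat.Prime 3) := ⟨Nat.prime_three⟩
  refine (Nat.mul_le_mul (card_addEquiv_le (q := 2) (d := a) (fun x : T 2 => Subtype.ext x.2) ha)
    (card_addEquiv_le (q := 3) (d := b) (fun x : T 3 => Subtype.ext x.2) hb)).trans ?_
  interval_cases a <;> interval_cases b <;> norm_num [Nat.descFactorial]

variable {F : Type v} {V : Type u} [Field F] [Finite F] [AddCommGroup V] [Module F V] [Finite V]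
variable {L : Subgroup (V ≃ₗ[F] V)}

/-- The table bounds the index of the scalars. -/
theorem Layer.index_le_scalarBound (ly : Layer L) : ly.A.index ≤ ly.h * scalarBound ly.w := by
  by_cases h10 : ly.w ≤ 10
  swap
  · rw [scalarBound, if_neg h10]
    exact ly.index_crude
  refine ly.index_le.trans (Nat.mul_le_mul_left _ ?_)
  obtain ⟨e, he⟩ := ly.square
  have hn := ly.n_le
  have hn0 := ly.n_pos
  have hew : e ≤ ly.w := by
    rw [he, sq] at hn
    exact Nat.mul_self_le_mul_self_iff.1 hn
  have hi := ly.i_layer (by nlinarith)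
  have h16 : ly.n = 16 → ly.i ≤ 144 := fun h => ly.i_image 144 (h ▸ imageLE_sixteen.1)
  have h64 : ly.n = 64 → ly.i ≤ 500000 := fun h => ly.i_image 500000 (h ▸ imageLE_sixteen.2)
  have h36 : ly.n = 36 → ly.i ≤ 1296 := fun h => ly.i_image 1296 (h ▸ imageLE_thirtysix)
  have hp : ∀ ℓ, ℓ.Prime → ℓ ∣ ly.n → ℓ ∣ ly.w := fun ℓ h1 h2 => (ly.primes ℓ h1 h2).1
  have h2 := hp 2 Nat.prime_two
  have h3 := hp 3 Nat.prime_three
  have h5 := hp 5 (by norm_num)
  have h7 := hp 7 (by norm_num)
  have h1w := ly.one_le_w
  generalize ly.n = n, ly.w = w, ly.i = i at *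
  subst he
  refine le_trans (Nat.mul_le_mul_left _ (le_min hi (le_min
    (show i ≤ if e = 4 then 144 else layerBound (e * e) by
      split_ifs with h
      · exact h16 (by rw [h])
      · exact hi)
    (le_min (show i ≤ if e = 8 then 500000 else layerBound (e * e) by
      split_ifs with h
      · exact h64 (by rw [h])
      · exact hi)
      (show i ≤ if e = 6 then 1296 else layerBound (e * e) by
      split_ifs with h
      · exact h36 (by rw [h])
      · exact hi))))) ?_
  clear hi h16 h64 h36 hp hn
  interval_cases w <;> interval_cases e <;> first | omega | decide +kernel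

end CfsgLib.Solvable.ClassLinearBound
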